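import Mathlib
import Groth.Agent.HilbDescLib.IdealDescent
import Groth.Agent.ModPairLib.ValTest

/-! Quasi-coherent ideal sheaves glue along open covers. -/

set_option autoImplicit false
set_option backward.isDefEq.respectTransparency false
set_option backward.isDefEq.respectTransparency.types false
set_option linter.style.haveILetI false
set_option maxHeartbeats 800000

universe u

open CategoryTheory CategoryTheory.Limits AlgebraicGeometry TopologicalSpace

namespace Groth.Agent.HilbRepLib

open ModPairLib HilbDescLib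

variable {X : Scheme.{u}} {σ : Type u} {U : σ → Scheme.{u}} (j : ∀ i, U i ⟶ X) [∀ i, IsOpenImmersion (j i)]

theorem res_res {A B C : X.Opens} (hBA : B ≤ A) (hCB : C ≤ B) (y : Γ(X, A)) :
    (X.presheaf.map (homOfLE hCB).op).hom ((X.presheaf.map (homOfLE hBA).op).hom y) =
      (X.presheaf.map (homOfLE (hCB.trans hBA)).op).hom y := by
  rw [← CommRingCat.comp_apply, ← Functor.map_comp]
  rfl

/-- An affine open contained in one member of the cover. -/
def IsSmall (W : X.affineOpens) : Prop := ∃ i, (W : X.Opens) ≤ (j i).opensRange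

theorem IsSmall.mono {W W' : X.affineOpens} (h : IsSmall j W) (hle : (W' : X.Opens) ≤ W) : IsSmall j W' :=
  ⟨h.choose, hle.trans h.choose_spec⟩

/-- The chosen member containing a small affine open. -/
noncomputable def IsSmall.lift {W : X.affineOpens} (h : IsSmall j W) :
    Spec Γ(X, W.1) ⟶ U h.choose :=
  IsOpenImmersion.lift (j h.choose) W.2.fromSpec (by rw [W.2.range_fromSpec]; exact h.choose_spec)

theorem IsSmall.lift_fac {W : X.affineOpens} (h : IsSmall j W) : h.lift j ≫ j h.choose = W.2.fromSpec :=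
  IsOpenImmersion.lift_fac _ _ _

variable (I : ∀ i, (U i).IdealSheafData)

/-- Agreement on overlaps. -/
def Compat : Prop :=
  ∀ (i k : σ) (Z : Scheme.{u}) (a : Z ⟶ U i) (b : Z ⟶ U k), a ≫ j i = b ≫ j k → (I i).comap a = (I k).comap b

/-- The local ideal. -/
noncomputable def locIdeal {W : X.affineOpens} (h : IsSmall j W) : Ideal Γ(X, W.1) :=
  topIdeal ((I h.choose).comap (h.lift j))

variable {j I} (hI : Compat j I)

include hI in
theorem locIdeal_res {W W' : X.affineOpens} (h : IsSmall j W) (h' : IsSmall j W') (hle : (W' : X.Opens) ≤ W) :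
    (locIdeal j I h).map (X.presheaf.map (homOfLE hle).op).hom = locIdeal j I h' := by
  rw [locIdeal, locIdeal]
  refine (topIdeal_comap (R := Γ(X, W.1)) (S := Γ(X, W'.1)) (X.presheaf.map (homOfLE hle).op).hom
    ((I h.choose).comap (h.lift j))).symm.trans ?_
  rw [← Scheme.IdealSheafData.comap_comp]
  refine congrArg topIdeal (hI _ _ _ _ _ ?_)
  rw [Category.assoc, h.lift_fac, h'.lift_fac]
  exact W.2.map_fromSpec W'.2 _

include hI in
theorem mem_locIdeal_of_cover {V : X.affineOpens} (y : Γ(X, V.1)) {W : X.affineOpens} (h : IsSmall j W)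
    (hle : (W : X.Opens) ≤ V)
    (hy : ∀ x ∈ (W : X.Opens), ∃ (W' : X.affineOpens) (h' : IsSmall j W') (hle' : (W' : X.Opens) ≤ V),
      x ∈ (W' : X.Opens) ∧ (X.presheaf.map (homOfLE hle').op).hom y ∈ locIdeal j I h') :
    (X.presheaf.map (homOfLE hle).op).hom y ∈ locIdeal j I h := by
  let r : Set Γ(X, W.1) := {g | ∃ n : ℕ, g ^ n • (X.presheaf.map (homOfLE hle).op).hom y ∈ locIdeal j I h}
  have hr : ∀ x ∈ (W : X.Opens), ∃ g ∈ r, x ∈ X.basicOpen g := by
    intro x hx
    obtain ⟨W', h', hle', hxW', hy'⟩ := hy x hx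
    obtain ⟨g, hgle, hxg⟩ := W.2.exists_basicOpen_le (V := W'.1) ⟨x, hxW'⟩ hx
    refine ⟨g, ?_, hxg⟩
    let D := X.affineBasicOpen g
    have hD : IsSmall j D := h.mono j (X.basicOpen_le g)
    letI : IsLocalization.Away g Γ(X, X.basicOpen g) := W.2.isLocalization_basicOpen g
    have h2 : algebraMap Γ(X, W.1) Γ(X, X.basicOpen g) ((X.presheaf.map (homOfLE hle).op).hom y) ∈
        (locIdeal j I h).map (algebraMap Γ(X, W.1) Γ(X, X.basicOpen g)) := by
      have h3 := Ideal.mem_map_of_mem (X.presheaf.map (homOfLE (show (D : X.Opens) ≤ W' from hgle)).op).hom hy'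
      rw [locIdeal_res hI h' hD] at h3
      rw [← CommRingCat.comp_apply, ← Functor.map_comp] at h3
      have h4 : (locIdeal j I h).map (algebraMap Γ(X, W.1) Γ(X, X.basicOpen g)) = locIdeal j I hD :=
        locIdeal_res hI h hD (X.basicOpen_le g)
      rw [h4]
      show (X.presheaf.map _).hom _ ∈ _
      rw [← CommRingCat.comp_apply, ← Functor.map_comp]
      exact h3
    obtain ⟨m, ⟨n, hn⟩, hm⟩ := (IsLocalization.algebraMap_mem_map_algebraMap_iff (Submonoid.powers g) _ _ _).1 h2
    refine ⟨n, ?_⟩
    rw [smul_eq_mul]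
    have hn' : g ^ n = m := hn
    rwa [hn']
  refine Submodule.mem_of_span_eq_top_of_smul_pow_mem _ r ?_ _ fun g => g.2
  rw [← W.2.iSup_basicOpen_eq_self_iff]
  refine le_antisymm (iSup_le fun g => X.basicOpen_le _) fun x hx => ?_
  obtain ⟨g, hg, hxg⟩ := hr x hx
  exact Opens.mem_iSup.2 ⟨⟨g, hg⟩, hxg⟩

include hI in
/-- Ideal sheaves glue. -/
theorem exists_glue (hcov : ∀ x : X, ∃ i, x ∈ (j i).opensRange) :
    ∃ J : X.IdealSheafData, ∀ i, J.comap (j i) = I i := by
  classical
  let Jf : ∀ V : X.affineOpens, Ideal Γ(X, V.1) := fun V =>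
    ⨅ (W : X.affineOpens) (h : IsSmall j W) (hle : (W : X.Opens) ≤ V),
      (locIdeal j I h).comap (X.presheaf.map (homOfLE hle).op).hom
  have mem : ∀ (V : X.affineOpens) (y : Γ(X, V.1)), y ∈ Jf V ↔
      ∀ (W : X.affineOpens) (h : IsSmall j W) (hle : (W : X.Opens) ≤ V),
        (X.presheaf.map (homOfLE hle).op).hom y ∈ locIdeal j I h := by
    intro V y
    simp only [Jf, Submodule.mem_iInf, Ideal.mem_comap]
  have small : ∀ (V : X.affineOpens) (x : X), x ∈ (V : X.Opens) →
      ∃ (W : X.affineOpens), IsSmall j W ∧ (W : X.Opens) ≤ V ∧ x ∈ (W : X.Opens) := by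
    intro V x hx
    obtain ⟨i, hi⟩ := hcov x
    obtain ⟨W, hW, hxW, hWle⟩ := exists_isAffineOpen_mem_and_subset (show x ∈ V.1 ⊓ (j i).opensRange from ⟨hx, hi⟩)
    exact ⟨⟨W, hW⟩, ⟨i, fun z hz => (hWle hz).2⟩, fun z hz => (hWle hz).1, hxW⟩
  have hfix : ∀ (W : X.affineOpens) (h : IsSmall j W), Jf W = locIdeal j I h := by
    intro W h
    refine le_antisymm (fun y hy => ?_) fun y hy => (mem W y).2 fun W' h' hle => ?_
    · simpa using (mem W y).1 hy W h le_rfl
    · rw [← locIdeal_res hI h h' hle]
      exact Ideal.mem_map_of_mem _ hy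
  let J : X.IdealSheafData :=
    { ideal := Jf
      map_ideal_basicOpen := fun V r => by
        let D := X.affineBasicOpen r
        refine le_antisymm ?_ ?_
        · rw [Ideal.map_le_iff_le_comap]
          intro y hy
          rw [Ideal.mem_comap, mem]
          intro W h hle
          exact (res_res (X.basicOpen_le r) hle y).symm ▸ (mem V y).1 hy W h _
        · intro t ht
          letI : IsLocalization.Away r Γ(X, X.basicOpen r) := V.2.isLocalization_basicOpen r
          obtain ⟨n, y, hy⟩ := IsLocalization.Away.surj r t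
          choose W hW hWle hxW using fun x : V.1 => small V x.1 x.2
          have hex : ∀ x : V.1, ∃ m : ℕ, (X.presheaf.map (homOfLE (hWle x)).op).hom (r ^ m * y) ∈ locIdeal j I (hW x) := by
            intro x
            let g := (X.presheaf.map (homOfLE (hWle x)).op).hom r
            let E := X.affineBasicOpen (U := W x) g
            have hE : IsSmall j E := (hW x).mono j (X.basicOpen_le g)
            have hED : (E : X.Opens) ≤ D := by
              show X.basicOpen g ≤ X.basicOpen r
              simp only [g, Scheme.basicOpen_res]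
              exact inf_le_right
            letI : IsLocalization.Away g Γ(X, X.basicOpen g) := (W x).2.isLocalization_basicOpen g
            have h1 : (X.presheaf.map (homOfLE hED).op).hom (algebraMap Γ(X, V.1) Γ(X, X.basicOpen r) y) ∈
                locIdeal j I hE := by
              rw [← hy, map_mul]
              exact Ideal.mul_mem_right _ _ ((mem D t).1 ht E hE hED)
            have h2 : algebraMap Γ(X, (W x).1) Γ(X, X.basicOpen g) ((X.presheaf.map (homOfLE (hWle x)).op).hom y) ∈
                (locIdeal j I (hW x)).map (algebraMap Γ(X, (W x).1) Γ(X, X.basicOpen g)) := by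
              have h4 : (locIdeal j I (hW x)).map (algebraMap Γ(X, (W x).1) Γ(X, X.basicOpen g)) = locIdeal j I hE :=
                locIdeal_res hI (hW x) hE (X.basicOpen_le g)
              rw [h4]
              have h5 : (X.presheaf.map (homOfLE hED).op).hom ((X.presheaf.map (homOfLE (X.basicOpen_le r)).op).hom y) ∈
                  locIdeal j I hE := h1
              exact (res_res (hWle x) (X.basicOpen_le g) y).trans (res_res (X.basicOpen_le r) hED y).symm ▸ h5
            obtain ⟨m', ⟨m, hm⟩, hm'⟩ := (IsLocalization.algebraMap_mem_map_algebraMap_iff (Submonoid.powers g) _ _ _).1 h2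
            refine ⟨m, ?_⟩
            have hm'' : g ^ m = m' := hm
            rw [map_mul, map_pow]
            show g ^ m * _ ∈ _
            rwa [hm'']
          choose m hm using hex
          obtain ⟨s, hs⟩ := V.2.isCompact.elim_finite_subcover (fun x : V.1 => ((W x).1 : Set X))
            (fun x => (W x).1.2) (fun x hx => Set.mem_iUnion.2 ⟨⟨x, hx⟩, hxW ⟨x, hx⟩⟩)
          let N := s.sup m
          have hyN : r ^ N * y ∈ Jf V := by
            rw [mem]
            intro W₀ h₀ hle₀
            refine mem_locIdeal_of_cover hI _ h₀ hle₀ fun z hz => ?_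
            obtain ⟨x, hxs, hzx⟩ := Set.mem_iUnion₂.1 (hs (hle₀ hz))
            refine ⟨W x, hW x, hWle x, hzx, ?_⟩
            have hsplit : r ^ N * y = r ^ (N - m x) * (r ^ m x * y) := by
              rw [← mul_assoc, ← pow_add, Nat.sub_add_cancel (Finset.le_sup hxs)]
            rw [hsplit, map_mul]
            exact Ideal.mul_mem_left _ _ (hm x)
          have hu : IsUnit (algebraMap Γ(X, V.1) Γ(X, X.basicOpen r) r) := IsLocalization.Away.algebraMap_isUnit r
          have h6 := Ideal.mem_map_of_mem (algebraMap Γ(X, V.1) Γ(X, X.basicOpen r)) hyN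
          rw [map_mul, map_pow, ← hy, ← mul_assoc, mul_comm _ t, mul_assoc, ← pow_add] at h6
          exact (Ideal.mul_unit_mem_iff_mem _ (hu.pow _)).1 h6 }
  refine ⟨J, fun i => ?_⟩
  refine Scheme.IdealSheafData.ext (funext fun W => ?_)
  obtain ⟨W, hW⟩ := W
  let W' : X.affineOpens := ⟨j i ''ᵁ W, hW.image_of_isOpenImmersion (j i)⟩
  have hsm : IsSmall j W' := ⟨i, (j i).image_le_opensRange W⟩
  rw [IdealStalkLib.comap_ideal J (j i) W'.2 hW (by rw [Scheme.Hom.preimage_image_eq])]
  show (Jf W').map _ = _
  rw [hfix W' hsm, locIdeal, ← topIdeal_comap_fromSpec (I i) hW]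
  refine (topIdeal_comap (R := Γ(X, W'.1)) (S := Γ(U i, W)) ((j i).appLE W'.1 W (by rw [Scheme.Hom.preimage_image_eq])).hom
    ((I hsm.choose).comap (hsm.lift j))).symm.trans ?_
  rw [← Scheme.IdealSheafData.comap_comp]
  refine congrArg topIdeal (hI _ _ _ _ _ ?_)
  rw [Category.assoc, hsm.lift_fac]
  exact W'.2.SpecMap_appLE_fromSpec (j i) hW _

end Groth.Agent.HilbRepLib
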