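import Mathlib
import Groth.Agent.HilbRepLib.IdealGlue
import Groth.Agent.HilbCurveLib.Pull
import Groth.Agent.HilbDescLib.Push

/-! The Hilbert functor of points as a Zariski sheaf. -/

set_option autoImplicit false
set_option backward.isDefEq.respectTransparency false
set_option backward.isDefEq.respectTransparency.types false
set_option linter.style.haveILetI false
set_option maxHeartbeats 800000

universe u

open CategoryTheory CategoryTheory.Limits AlgebraicGeometry TopologicalSpace Opposite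

namespace Groth.Agent.HilbRepLib

section
variable {X : Scheme.{u}} {σ : Type u} {U : σ → Scheme.{u}} (j : ∀ i, U i ⟶ X) [∀ i, IsOpenImmersion (j i)]

theorem eq_of_cover (hcov : ∀ x : X, ∃ i, x ∈ (j i).opensRange) {I J : X.IdealSheafData}
    (h : ∀ i, I.comap (j i) = J.comap (j i)) : I = J := by
  refine Scheme.IdealSheafData.ext_of_iSup_eq_top (fun W : {W : X.affineOpens // IsSmall j W} => W.1) ?_ ?_
  · refine top_le_iff.mp fun x _ => ?_
    obtain ⟨i, hi⟩ := hcov x
    obtain ⟨W, hW, hxW, hWle⟩ := exists_isAffineOpen_mem_and_subset hi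
    exact Opens.mem_iSup.2 ⟨⟨⟨W, hW⟩, i, fun z hz => hWle hz⟩, hxW⟩
  · rintro ⟨⟨W, hW⟩, hs⟩
    rw [← HilbDescLib.topIdeal_comap_fromSpec I hW, ← HilbDescLib.topIdeal_comap_fromSpec J hW,
      show hW.fromSpec = hs.lift j ≫ j hs.choose from (hs.lift_fac j).symm,
      Scheme.IdealSheafData.comap_comp, Scheme.IdealSheafData.comap_comp, h]

end

variable {X S : Scheme.{u}} (f : X ⟶ S) (d : ℕ)

/-- The Hilbert functor of points. -/
noncomputable def hilb : (Over S)ᵒᵖ ⥤ Type u where
  obj T := HilbD.Obj f d (unop T)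
  map g := TypeCat.ofHom fun Z => ⟨HilbD.pull f g.unop Z.1, HilbCurveLib.pull_deg f g.unop Z.2⟩
  map_id T := ConcreteCategory.hom_ext _ _ fun Z => Subtype.ext (HilbDescLib.pull_id Z.1)
  map_comp g g' := ConcreteCategory.hom_ext _ _ fun Z => Subtype.ext (HilbCurveLib.pull_comp f g.unop g'.unop Z.1)

theorem hilb_map {T T' : Over S} (g : T' ⟶ T) (Z : HilbD.Obj f d T) :
    ((hilb f d).map g.op Z : HilbD.Obj f d T').1 = HilbD.pull f g Z.1 := rfl

variable {σ : Type u} {T : Over S} {U : σ → Over S} (t : ∀ i, U i ⟶ T) [∀ i, IsOpenImmersion (t i).left]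

/-- A family covering the target. -/
def Covers : Prop := ∀ x : T.left, ∃ i, x ∈ (t i).left.opensRange

theorem isOpenImmersion_XTmap {T T' : Over S} (g : T' ⟶ T) [IsOpenImmersion g.left] :
    IsOpenImmersion (PicF.XTmap f g) :=
  MorphismProperty.of_isPullback (P := @IsOpenImmersion) (HilbCurveLib.isPullback_XTmap f g).flip inferInstance

theorem covers_XTmap (hcov : Covers t) (z : (PicF.XT f T : Scheme.{u})) :
    ∃ i, ∃ w, PicF.XTmap f (t i) w = z := by
  obtain ⟨i, y, hy⟩ := hcov (PicF.XTproj f T z)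
  have hy' : (t i).left y = PicF.XTproj f T z := hy
  obtain ⟨w, hw, -⟩ := Scheme.exists_preimage_of_isPullback (HilbCurveLib.isPullback_XTmap f (t i)) z y hy'.symm
  exact ⟨i, w, hw⟩

theorem hilb_separated (hcov : Covers t) {Z Z' : HilbD.Obj f d T}
    (h : ∀ i, HilbD.pull f (t i) Z.1 = HilbD.pull f (t i) Z'.1) : Z = Z' := by
  haveI : ∀ i, IsOpenImmersion (PicF.XTmap f (t i)) := fun i => isOpenImmersion_XTmap f (t i)
  refine Subtype.ext (eq_of_cover (fun i => PicF.XTmap f (t i)) (covers_XTmap f t hcov) fun i => ?_)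
  rw [← HilbCurveLib.pull_eq, ← HilbCurveLib.pull_eq, h]

theorem deg_of_cover (hcov : Covers t) (J : (PicF.XT f T).IdealSheafData)
    (h : ∀ i, Mor2.IsFinLocFreeOfDeg d ((J.comap (PicF.XTmap f (t i))).subschemeι ≫ PicF.XTproj f (U i))) :
    Mor2.IsFinLocFreeOfDeg d (J.subschemeι ≫ PicF.XTproj f T) := by
  let a := J.subschemeι ≫ PicF.XTproj f T
  have sq := fun i => (HilbCurveLib.isPullback_comap (HilbCurveLib.isPullback_XTmap f (t i)) J).flip
  let 𝒰 : T.left.OpenCover := Scheme.Cover.mkOfCovers σ (fun i => (U i).left) (fun i => (t i).left)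
    (fun x => hcov x) (fun i => inferInstance)
  have key : ∀ (P : MorphismProperty Scheme.{u}) [P.RespectsIso],
      (∀ i, P ((J.comap (PicF.XTmap f (t i))).subschemeι ≫ PicF.XTproj f (U i))) → ∀ i, P (pullback.snd a (t i).left) := by
    intro P _ hP i
    rw [← P.cancel_left_of_respectsIso (sq i).flip.flip.isoPullback.hom, IsPullback.isoPullback_hom_snd]
    exact hP i
  haveI h1 : IsFinite a := IsZariskiLocalAtTarget.of_openCover 𝒰 (key @IsFinite fun i => (h i).1.1)
  haveI h2 : Flat a := IsZariskiLocalAtTarget.of_openCover 𝒰 (key @Flat fun i => (h i).1.2.1)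
  haveI h3 : LocallyOfFinitePresentation a :=
    IsZariskiLocalAtTarget.of_openCover 𝒰 (key @LocallyOfFinitePresentation fun i => (h i).1.2.2)
  refine ⟨⟨h1, h2, h3⟩, fun y => ?_⟩
  obtain ⟨i, y', rfl⟩ := hcov y
  exact ((Scheme.Hom.finrank_of_isPullback _ _ _ _ (sq i) y').symm.trans ((h i).2 y') :)

theorem hilb_glue (hcov : Covers t) (Z : ∀ i, HilbD.Obj f d (U i))
    (hZ : ∀ (i k : σ) (W : Over S) (a : W ⟶ U i) (b : W ⟶ U k), a ≫ t i = b ≫ t k →
      HilbD.pull f a (Z i).1 = HilbD.pull f b (Z k).1) :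
    ∃ J : HilbD.Obj f d T, ∀ i, HilbD.pull f (t i) J.1 = (Z i).1 := by
  haveI : ∀ i, IsOpenImmersion (PicF.XTmap f (t i)) := fun i => isOpenImmersion_XTmap f (t i)
  have hc : Compat (fun i => PicF.XTmap f (t i)) (fun i => (Z i).1) := by
    intro i k P a b hab
    let W : Over S := Over.mk ((a ≫ PicF.XTproj f (U i)) ≫ (U i).hom)
    have h2 := hab =≫ PicF.XTproj f T
    simp only [Category.assoc] at h2
    rw [HilbCurveLib.XTmap_snd, HilbCurveLib.XTmap_snd] at h2
    have h1 := hab =≫ pullback.fst f T.hom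
    simp only [Category.assoc, HilbCurveLib.XTmap_fst] at h1
    let g1 : W ⟶ U i := Over.homMk (a ≫ PicF.XTproj f (U i)) rfl
    let g2 : W ⟶ U k := Over.homMk (b ≫ PicF.XTproj f (U k)) (by
      show _ = (a ≫ PicF.XTproj f (U i)) ≫ (U i).hom
      rw [← Over.w (t i), ← Over.w (t k), Category.assoc, Category.assoc, reassoc_of% h2])
    let c : P ⟶ PicF.XT f W := pullback.lift (a ≫ pullback.fst f (U i).hom) (𝟙 P) (by
      rw [Category.assoc, pullback.condition, Category.id_comp]
      exact (Category.assoc _ _ _).symm)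
    have hc1 : c ≫ PicF.XTmap f g1 = a := by
      apply pullback.hom_ext
      · rw [Category.assoc, HilbCurveLib.XTmap_fst, pullback.lift_fst]
      · rw [Category.assoc, HilbCurveLib.XTmap_snd, pullback.lift_snd_assoc]
        exact Category.id_comp _
    have hc2 : c ≫ PicF.XTmap f g2 = b := by
      apply pullback.hom_ext
      · rw [Category.assoc, HilbCurveLib.XTmap_fst, pullback.lift_fst, h1]
      · rw [Category.assoc, HilbCurveLib.XTmap_snd, pullback.lift_snd_assoc]
        exact Category.id_comp _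
    have hg : g1 ≫ t i = g2 ≫ t k := Over.OverMorphism.ext (by simpa [g1, g2] using h2)
    have h3 := hZ i k W g1 g2 hg
    rw [HilbCurveLib.pull_eq, HilbCurveLib.pull_eq] at h3
    rw [← hc1, ← hc2, Scheme.IdealSheafData.comap_comp, Scheme.IdealSheafData.comap_comp, h3]
  obtain ⟨J, hJ⟩ := exists_glue hc (covers_XTmap f t hcov)
  refine ⟨⟨J, deg_of_cover f d t hcov J fun i => ?_⟩, fun i => (HilbCurveLib.pull_eq f _ _).trans (hJ i)⟩
  rw [hJ i]
  exact (Z i).2

theorem isSheaf_hilb : Presheaf.IsSheaf (Scheme.zariskiTopology.over S) (hilb f d) := by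
  rw [isSheaf_iff_isSheaf_of_type]
  intro T R hR x hx
  rw [GrothendieckTopology.mem_over_iff] at hR
  obtain ⟨𝒰, h𝒰⟩ := Scheme.exists_cover_of_mem_grothendieckTopology hR
  let U : 𝒰.I₀ → Over S := fun i => Over.mk (𝒰.f i ≫ T.hom)
  let t : ∀ i, U i ⟶ T := fun i => Over.homMk (𝒰.f i) rfl
  haveI : ∀ i, IsOpenImmersion (t i).left := fun i => 𝒰.map_prop i
  have hcov : Covers t := fun z => ⟨𝒰.idx z, 𝒰.covers z⟩
  have hRt : ∀ i, R (t i) := fun i => (Sieve.overEquiv_iff R (𝒰.f i)).mp (h𝒰 _ _ (Presieve.ofArrows.mk i))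
  obtain ⟨J, hJ⟩ := hilb_glue f d t hcov (fun i => x (t i) (hRt i))
    (fun i k W a b e => congrArg Subtype.val (hx a b (hRt i) (hRt k) e))
  refine ⟨J, fun Y g hg => Subtype.ext ?_, fun J' hJ' => ?_⟩
  · let V : 𝒰.I₀ → Over S := fun i => Over.mk (pullback.fst g.left (𝒰.f i) ≫ Y.hom)
    let v : ∀ i, V i ⟶ Y := fun i => Over.homMk (pullback.fst g.left (𝒰.f i)) rfl
    haveI : ∀ i, IsOpenImmersion (v i).left := fun i => inferInstanceAs (IsOpenImmersion (pullback.fst g.left (𝒰.f i)))
    let w : ∀ i, V i ⟶ U i := fun i => Over.homMk (pullback.snd g.left (𝒰.f i)) (by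
      show _ ≫ 𝒰.f i ≫ T.hom = _ ≫ Y.hom
      rw [← pullback.condition_assoc, Over.w g])
    have hsq : ∀ i, v i ≫ g = w i ≫ t i := fun i => Over.OverMorphism.ext pullback.condition
    have hcv : Covers v := fun y => by
      obtain ⟨i, z, hz⟩ := hcov (g.left y)
      obtain ⟨p, hp, -⟩ := Scheme.exists_preimage_of_isPullback (IsPullback.of_hasPullback g.left (𝒰.f i)) y z hz.symm
      exact ⟨i, p, hp⟩
    have key := hilb_separated f d v hcv (Z := (hilb f d).map g.op J) (Z' := x g hg) fun i => by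
      rw [hilb_map, ← HilbCurveLib.pull_comp, hsq, HilbCurveLib.pull_comp, hJ]
      exact congrArg Subtype.val (hx (w i) (v i) (hRt i) hg (hsq i).symm)
    exact congrArg Subtype.val key
  · refine hilb_separated f d t hcov fun i => ?_
    rw [hJ]
    exact congrArg Subtype.val (hJ' (t i) (hRt i))

end Groth.Agent.HilbRepLib
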