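import Groth.Agent.CurveLib.GlobalFun
import Groth.Agent.CurveLib.Ample
import Groth.Agent.CurveLib.DegTensor
import Groth.Agent.AVLib.DivSection
import Groth.Agent.AmpleEmb.Inverse
import Groth.Agent.RegLocal.UFD
import Groth.Agent.S8914
import Groth.Agent.S1572
import Groth.Agent.S2324

/-! Finitely many points of a smooth proper curve lie in an affine open. -/

set_option autoImplicit false
set_option linter.style.haveILetI false

universe u

open CategoryTheory CategoryTheory.Limits AlgebraicGeometry TopologicalSpace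

namespace Groth.Agent.HilbRepLib

theorem exists_affine_of_finite (k : Type u) [Field k] (X : Scheme.{u}) [X.Over (Spec (CommRingCat.of k))]
    [IsProper (X ↘ Spec (CommRingCat.of k))] [Smooth (X ↘ Spec (CommRingCat.of k))] [IsIntegral X]
    (hdim : topologicalKrullDim X = 1) (Z : Set X) (hZ : Z.Finite) :
    ∃ U : X.Opens, IsAffineOpen U ∧ Z ⊆ U := by
  haveI := EulerIneqLib.isNoetherian_proper (X := X) k
  haveI : X.IsSeparated := by
    constructor
    rw [← terminal.comp_from (X ↘ Spec (CommRingCat.of k))]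
    infer_instance
  obtain ⟨_, ⟨U, hU, rfl⟩, hηU, -⟩ :=
    X.isBasis_affineOpens.exists_subset_of_mem_open (Set.mem_univ (genericPoint X)) isOpen_univ
  have hdense : Dense (U : Set X) := U.2.dense ⟨_, hηU⟩
  have hufd : ∀ x : X, x ∉ U → IsDomain (X.presheaf.stalk x) ∧ UniqueFactorizationMonoid (X.presheaf.stalk x) := by
    intro x _
    haveI := CurveLib.isRegularLocalRing_stalk_of_smooth (k := k) (X := X) x
    exact ⟨inferInstance, RegLocal.ufd _⟩
  obtain ⟨D, hD, hsupp⟩ := S1572.result X U hU hdense hufd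
  have hI : PicF.IsInvertible (ClSub.idealMod D) := (S8914.result D).2 hD
  obtain ⟨L, hL, ⟨e⟩⟩ := AmpleEmb.exists_isInverseOf hI
  have hLD : ClSub.IsInverseOf L (ClSub.idealMod D) := ⟨CurveLib.tmodComm _ _ ≪≫ e⟩
  obtain ⟨s, hs⟩ := AVLib.exists_section_genLocus_compl hD hL hLD
  have hgU : CohB1.genLocus L s = U := by
    rw [hs]
    apply TopologicalSpace.Opens.ext
    show (D.support : Set X)ᶜ = _
    rw [hsupp, compl_compl]
  obtain ⟨y, hy⟩ : ∃ y, y ∉ U := by
    by_contra hall
    refine CurveLib.not_isAffine_of_dim k hdim ?_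
    have e : U = ⊤ := eq_top_iff.2 fun y _ => not_not.1 fun h' => hall ⟨y, h'⟩
    haveI : IsAffine (⊤ : X.Opens).toScheme := e ▸ hU
    exact IsAffine.of_isIso X.topIso.inv
  have hs0 : s ≠ 0 := fun h0 => by
    have h1 : genericPoint X ∈ CohB1.genLocus L s := by rw [hgU]; exact hηU
    have h1 := (AmpleLib.mem_genLocus_iff hL).1 h1
    rw [h0, show AmpleLib.sec (0 : Coh.structureModule X ⟶ L) = 0 from rfl, map_zero] at h1
    exact zero_ne_one (h1.1 ((smul_zero _).trans (smul_zero _).symm) : (0 : X.presheaf.stalk (genericPoint X)) = 1)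
  have hpos : 0 < Curv2.deg k X L 1 := by
    obtain ⟨h1, h2⟩ := CurveLib.deg_le_of_ne_zero (k := k) hdim.le ParaFLib.isInvertible_structureModule hL hs0
    rw [CurveLib.deg_structureModule] at h1 h2
    refine lt_of_le_of_ne h1 fun he => hy ?_
    haveI := h2 he
    rw [← hgU]
    exact TopologicalSpace.Opens.mem_sSup.2 ⟨⊤,
      inferInstanceAs (IsIso ((Scheme.Modules.restrictFunctor (⊤ : X.Opens).ι).map s)), trivial⟩
  obtain ⟨n, t, hZt, -, ht⟩ := S2324.result X L ((CurveLib.isAmple_iff_deg_pos hdim hL).2 hpos) Z hZ ⊤ (Set.subset_univ Z)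
  exact ⟨_, ht, hZt⟩

end Groth.Agent.HilbRepLib
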