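import Mathlib
import Groth.Agent.HilbRepLib.GrassFree
import Groth.Agent.GrassRepLib.Main

/-! Representability of the Grassmannian of an arbitrary module. -/

set_option autoImplicit false
set_option backward.isDefEq.respectTransparency false
set_option backward.isDefEq.respectTransparency.types false
set_option linter.style.haveILetI false

universe u

open AlgebraicGeometry CategoryTheory TensorProduct Module

namespace Groth.Agent.HilbRepLib

open HilbDescLib GrassRepLib

variable {R : Type u} [CommRing R]

/-- The Grassmannian of any module is representable on affine points. -/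
theorem exists_represents (M : Type u) [AddCommGroup M] [Module R M] (k : ℕ) :
    ∃ (X : Over (Spec (CommRingCat.of R)))
      (e : ∀ A : CommAlgCat.{u} R, (test A ⟶ X) ≃ (Grassmannian.functor (R := R) (M := M) k).obj A),
      Represents (Grassmannian.functor (R := R) (M := M) k) X e := by
  let v : (M →₀ R) →ₗ[R] M := Finsupp.linearCombination R (id : M → M)
  have hv : Function.Surjective v := Finsupp.linearCombination_id_surjective R M
  let G := glued (freeAtlas R M k)
  let e₁ := repEquiv (freeAtlas R M k) (isZarLocal_grass R (M →₀ R) k)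
  have he₁ := repEquiv_natural (freeAtlas R M k) (isZarLocal_grass R (M →₀ R) k)
  obtain ⟨Z, ι, hι, hZ⟩ := exists_closed e₁ he₁
    (fun A N => LinearMap.ker (v.baseChange A) ≤ N.toSubmodule) (fun A N => killIdeal v N)
    (fun A C φ N => killIdeal_iff hv φ.hom N)
  let Z' : Over (Spec (CommRingCat.of R)) := Over.mk (ι ≫ (G).hom)
  let j : Z' ⟶ G := Over.homMk ι rfl
  haveI : Mono j := Over.mono_of_mono_left j
  have hk : ∀ (A : CommAlgCat.{u} R) (z : test A ⟶ Z'),
      LinearMap.ker (v.baseChange A) ≤ (e₁ A (z ≫ j)).toSubmodule := fun A z => (hZ A (z ≫ j)).1 ⟨z.left, rfl⟩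
  have hbij : ∀ A : CommAlgCat.{u} R, Function.Bijective fun z : test A ⟶ Z' => grPush hv _ (hk A z) := by
    intro A
    refine ⟨fun z z' h => (cancel_mono j).1 ((e₁ A).injective ?_), fun N => ?_⟩
    · have h' := congrArg (grComap hv) h
      rwa [grComap_grPush, grComap_grPush] at h'
    · obtain ⟨h, hh⟩ := (hZ A ((e₁ A).symm (grComap hv N))).2 (by
        rw [Equiv.apply_symm_apply]
        exact ker_le_grComap hv N)
      let z : test A ⟶ Z' := Over.homMk h (show h ≫ ι ≫ (G).hom = _ by
        rw [reassoc_of% hh]
        exact Over.w ((e₁ A).symm (grComap hv N)))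
      refine ⟨z, grComap_injective hv ?_⟩
      rw [grComap_grPush, show z ≫ j = (e₁ A).symm (grComap hv N) from Over.OverMorphism.ext hh, Equiv.apply_symm_apply]
  refine ⟨Z', fun A => Equiv.ofBijective _ (hbij A), fun A B φ g g' hg => grComap_injective hv ?_⟩
  show grComap hv (grPush hv _ (hk B g')) = grComap hv (Grassmannian.map φ.hom (grPush hv _ (hk A g)))
  rw [← grComap_map, grComap_grPush, grComap_grPush]
  exact he₁ A B φ (g ≫ j) (g' ≫ j) (by simp only [Over.comp_left, hg, Category.assoc])

end Groth.Agent.HilbRepLib
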