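import Mathlib
import Groth.Agent.HilbRepLib.Sheaf
import Groth.Agent.HilbRepLib.GrassMain
import Groth.Agent.HilbDescLib.GrassIdeal

/-! Families of points of an affine scheme over an affine test scheme. -/

set_option autoImplicit false
set_option backward.isDefEq.respectTransparency false
set_option backward.isDefEq.respectTransparency.types false
set_option linter.style.haveILetI false
set_option maxHeartbeats 800000

universe u

open CategoryTheory CategoryTheory.Limits AlgebraicGeometry TensorProduct Opposite Module

namespace Groth.Agent.HilbRepLib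

open HilbDescLib GrassRepLib ModPairLib

theorem deg_comp_iso {X Y Z : Scheme.{u}} (e : X ⟶ Y) [IsIso e] (g : Y ⟶ Z) (d : ℕ) :
    Mor2.IsFinLocFreeOfDeg d g ↔ Mor2.IsFinLocFreeOfDeg d (e ≫ g) := by
  constructor
  · rintro ⟨⟨h1, h2, h3⟩, h4⟩
    haveI := h1
    haveI := h2
    exact ⟨⟨inferInstance, inferInstance, MorphismProperty.comp_mem _ e g inferInstance h3⟩,
      fun y => by rw [Scheme.Hom.finrank_comp_left_of_isIso]; exact h4 y⟩
  · rintro ⟨⟨h1, h2, h3⟩, h4⟩
    haveI : IsFinite g := by rwa [← MorphismProperty.cancel_left_of_respectsIso @IsFinite e g]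
    haveI : Flat g := by rwa [← MorphismProperty.cancel_left_of_respectsIso @Flat e g]
    refine ⟨⟨inferInstance, inferInstance, ?_⟩, fun y => ?_⟩
    · rwa [← MorphismProperty.cancel_left_of_respectsIso @LocallyOfFinitePresentation e g]
    · rw [← Scheme.Hom.finrank_comp_left_of_isIso e g]
      exact h4 y

/-- The ideal sheaf of an ideal of a ring. -/
noncomputable def sheafOf {C : Type u} [CommRing C] (K : Ideal C) : (Spec (CommRingCat.of C)).IdealSheafData :=
  (Spec.map (CommRingCat.ofHom (Ideal.Quotient.mk K))).ker

theorem topIdeal_ker {C D : Type u} [CommRing C] [CommRing D] (φ : C →+* D) :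
    topIdeal (Spec.map (CommRingCat.ofHom φ)).ker = RingHom.ker φ := by
  ext c
  rw [topIdeal, Ideal.mem_comap, Scheme.Hom.ker_apply, RingHom.mem_ker, RingHom.mem_ker]
  have h : (Spec.map (CommRingCat.ofHom φ)).appTop.hom ((Scheme.ΓSpecIso (CommRingCat.of C)).inv.hom c) =
      (Scheme.ΓSpecIso (CommRingCat.of D)).inv.hom (φ c) :=
    (congrArg (fun h : CommRingCat.of C ⟶ _ => h.hom c) (Scheme.ΓSpecIso_inv_naturality (CommRingCat.ofHom φ))).symm
  constructor
  · intro hc
    exact (Scheme.ΓSpecIso (CommRingCat.of D)).symm.commRingCatIsoToRingEquiv.injective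
      ((h.symm.trans hc).trans (map_zero _).symm)
  · intro hc
    exact h.trans (by rw [hc, map_zero])

theorem topIdeal_sheafOf {C : Type u} [CommRing C] (K : Ideal C) : topIdeal (sheafOf K) = K :=
  (topIdeal_ker _).trans Ideal.mk_ker

theorem topIdeal_injective {C : Type u} [CommRing C] {I J : (Spec (CommRingCat.of C)).IdealSheafData}
    (h : topIdeal I = topIdeal J) : I = J :=
  Scheme.IdealSheafData.ext_of_isAffine
    (Ideal.comap_injective_of_surjective _ (Scheme.ΓSpecIso (CommRingCat.of C)).symm.commRingCatIsoToRingEquiv.surjective h)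

theorem deg_spec {A C : Type u} [CommRing A] [CommRing C] [Algebra A C] (d : ℕ) :
    Mor2.IsFinLocFreeOfDeg d (Spec.map (CommRingCat.ofHom (algebraMap A C))) ↔
      Module.Finite A C ∧ Module.Projective A C ∧ ∀ p, Module.rankAtStalk (R := A) C p = d := by
  constructor
  · rintro ⟨⟨h1, h2, h3⟩, h4⟩
    rw [IsFinite.SpecMap_iff] at h1
    rw [HasRingHomProperty.Spec_iff (P := @Flat)] at h2
    rw [HasRingHomProperty.Spec_iff (P := @LocallyOfFinitePresentation)] at h3
    haveI : Module.Finite A C := RingHom.finite_algebraMap.1 h1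
    haveI : Module.Flat A C := RingHom.flat_algebraMap_iff.1 h2
    haveI : Algebra.FinitePresentation A C := RingHom.finitePresentation_algebraMap.1 h3
    haveI : Module.FinitePresentation A C := Module.FinitePresentation.of_finite_of_finitePresentation A C
    refine ⟨inferInstance, Module.Flat.projective_of_finitePresentation, fun p => ?_⟩
    rw [← h4 p, Scheme.Hom.finrank_SpecMap_algebraMap]
  · rintro ⟨h1, h2, h3⟩
    haveI : Module.FinitePresentation A C := Module.finitePresentation_of_projective A C
    refine ⟨⟨?_, ?_, ?_⟩, fun p => ?_⟩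
    · rw [IsFinite.SpecMap_iff]
      exact RingHom.finite_algebraMap.2 h1
    · rw [HasRingHomProperty.Spec_iff (P := @Flat)]
      exact RingHom.flat_algebraMap_iff.2 inferInstance
    · rw [HasRingHomProperty.Spec_iff (P := @LocallyOfFinitePresentation)]
      exact RingHom.finitePresentation_algebraMap.2 inferInstance
    · rw [Scheme.Hom.finrank_SpecMap_algebraMap]
      exact h3 p

theorem deg_quot {A C : Type u} [CommRing A] [CommRing C] [Algebra A C] (K : Ideal C) (d : ℕ) :
    Mor2.IsFinLocFreeOfDeg d ((sheafOf K).subschemeι ≫ Spec.map (CommRingCat.ofHom (algebraMap A C))) ↔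
      Module.Finite A (C ⧸ K) ∧ Module.Projective A (C ⧸ K) ∧ ∀ p, Module.rankAtStalk (R := A) (C ⧸ K) p = d := by
  rw [← deg_spec]
  let π := Spec.map (CommRingCat.ofHom (Ideal.Quotient.mk K))
  haveI : IsClosedImmersion π := IsClosedImmersion.spec_of_surjective _ Ideal.Quotient.mk_surjective
  have h1 : π.toImage ≫ (sheafOf K).subschemeι = π := π.toImage_imageι
  have e : Spec.map (CommRingCat.ofHom (algebraMap A (C ⧸ K))) =
      π.toImage ≫ (sheafOf K).subschemeι ≫ Spec.map (CommRingCat.ofHom (algebraMap A C)) := by
    rw [reassoc_of% h1, ← Spec.map_comp, ← CommRingCat.ofHom_comp]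
    rfl
  rw [e]
  exact deg_comp_iso π.toImage _ d

variable (R : Type u) [CommRing R] (B : Type u) [CommRing B] [Algebra R B]

/-- The affine scheme. -/
noncomputable abbrev str : Spec (CommRingCat.of B) ⟶ Spec (CommRingCat.of R) :=
  Spec.map (CommRingCat.ofHom (algebraMap R B))

variable {R} in
/-- The affine model of `X_T`. -/
noncomputable def model (A : CommAlgCat.{u} R) :
    Spec (CommRingCat.of (A ⊗[R] B)) ⟶ PicF.XT (str R B) (test A) :=
  pullback.lift
    (Spec.map (CommRingCat.ofHom (Algebra.TensorProduct.includeRight (R := R) (A := A) (B := B)).toRingHom))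
    (Spec.map (CommRingCat.ofHom (algebraMap A (A ⊗[R] B)))) (by
      show _ ≫ Spec.map _ = _ ≫ Spec.map _
      rw [← Spec.map_comp, ← Spec.map_comp, ← CommRingCat.ofHom_comp, ← CommRingCat.ofHom_comp]
      congr 2
      ext r
      exact ((Algebra.TensorProduct.includeRight (R := R) (A := A) (B := B)).commutes r).trans
        (IsScalarTower.algebraMap_apply R A (A ⊗[R] B) r))

variable {R} in
instance isIso_model (A : CommAlgCat.{u} R) : IsIso (model B A) := by
  have h : IsPullback (Spec.map (CommRingCat.ofHom (algebraMap A (A ⊗[R] B))))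
      (Spec.map (CommRingCat.ofHom (Algebra.TensorProduct.includeRight (R := R) (A := A) (B := B)).toRingHom))
      (test A).hom (str R B) :=
    isPullback_SpecMap_of_isPushout _ _ _ _ (CommRingCat.isPushout_tensorProduct R A B)
  have e : model B A = h.flip.isoPullback.hom := by
    apply pullback.hom_ext
    · rw [model, pullback.lift_fst, IsPullback.isoPullback_hom_fst]
    · rw [model, pullback.lift_snd, IsPullback.isoPullback_hom_snd]
  rw [e]
  infer_instance

variable {R} in
theorem model_proj (A : CommAlgCat.{u} R) :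
    model B A ≫ PicF.XTproj (str R B) (test A) = Spec.map (CommRingCat.ofHom (algebraMap A (A ⊗[R] B))) :=
  pullback.lift_snd _ _ _

variable {R} in
theorem model_map {A A' : CommAlgCat.{u} R} (g : test A' ⟶ test A) :
    Spec.map (CommRingCat.ofHom (Algebra.TensorProduct.map (testHom g).hom (AlgHom.id R B)).toRingHom) ≫ model B A =
      model B A' ≫ PicF.XTmap (str R B) g := by
  apply pullback.hom_ext
  · rw [Category.assoc, Category.assoc, HilbCurveLib.XTmap_fst, model, model, pullback.lift_fst, pullback.lift_fst,
      ← Spec.map_comp, ← CommRingCat.ofHom_comp]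
    congr 2
    ext b
    simp
  · rw [Category.assoc, Category.assoc, HilbCurveLib.XTmap_snd, model, model, pullback.lift_snd, pullback.lift_snd_assoc,
      testHom_left g, ← Spec.map_comp, ← Spec.map_comp, ← CommRingCat.ofHom_comp, ← CommRingCat.ofHom_comp]
    congr 2

variable {R B} {d : ℕ} {A : CommAlgCat.{u} R}

/-- The ideal of a family. -/
noncomputable def idealOf (Z : HilbD.Obj (str R B) d (test A)) : Ideal (A ⊗[R] B) := topIdeal (Z.1.comap (model B A))

theorem deg_model (J : (PicF.XT (str R B) (test A)).IdealSheafData) :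
    Mor2.IsFinLocFreeOfDeg d (J.subschemeι ≫ PicF.XTproj (str R B) (test A)) ↔
      Mor2.IsFinLocFreeOfDeg d ((J.comap (model B A)).subschemeι ≫ Spec.map (CommRingCat.ofHom (algebraMap A (A ⊗[R] B)))) := by
  rw [← model_proj B A, ← Category.assoc]
  have h : (J.comap (model B A)).subschemeι ≫ model B A =
      ((J.comapIso (model B A)).hom ≫ pullback.snd (model B A) J.subschemeι) ≫ J.subschemeι := by
    rw [Category.assoc, ← pullback.condition, Scheme.IdealSheafData.comapIso_hom_fst_assoc]
  rw [h, Category.assoc]
  exact deg_comp_iso ((J.comapIso (model B A)).hom ≫ pullback.snd (model B A) J.subschemeι) _ d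

theorem deg_idealOf (Z : HilbD.Obj (str R B) d (test A)) :
    Module.Finite A ((A ⊗[R] B) ⧸ idealOf Z) ∧ Module.Projective A ((A ⊗[R] B) ⧸ idealOf Z) ∧
      ∀ p, Module.rankAtStalk (R := A) ((A ⊗[R] B) ⧸ idealOf Z) p = d := by
  rw [← deg_quot (idealOf Z) d, show sheafOf (idealOf Z) = Z.1.comap (model B A) from
    topIdeal_injective (topIdeal_sheafOf _)]
  exact (deg_model Z.1).1 Z.2

/-- The point of the Grassmannian of a family. -/
noncomputable def grOf (Z : HilbD.Obj (str R B) d (test A)) : Grassmannian A (A ⊗[R] B) d where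
  toSubmodule := (idealOf Z).restrictScalars A
  finite_quotient := haveI := (deg_idealOf Z).1; Module.Finite.equiv (Submodule.Quotient.restrictScalarsEquiv A (idealOf Z)).symm
  projective_quotient := haveI := (deg_idealOf Z).2.1; Module.Projective.of_equiv (Submodule.Quotient.restrictScalarsEquiv A (idealOf Z)).symm
  rankAtStalk_eq p := by
    rw [Module.rankAtStalk_eq_of_equiv (Submodule.Quotient.restrictScalarsEquiv A (idealOf Z))]
    exact (deg_idealOf Z).2.2 p

theorem grOf_injective : Function.Injective (grOf : HilbD.Obj (str R B) d (test A) → _) := by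
  intro Z Z' h
  have h1 : idealOf Z = idealOf Z' := Submodule.restrictScalars_injective A _ _ (congrArg Grassmannian.toSubmodule h)
  have h2 := congrArg (fun J => J.comap (inv (model B A))) (topIdeal_injective h1)
  simp only [← Scheme.IdealSheafData.comap_comp, IsIso.inv_hom_id, Scheme.IdealSheafData.comap_id] at h2
  exact Subtype.ext h2

theorem isStable_grOf (Z : HilbD.Obj (str R B) d (test A)) : IsStable (grOf Z) :=
  fun b _ hx => Ideal.mul_mem_left (idealOf Z) ((1 : A) ⊗ₜ[R] b) hx

theorem exists_grOf {N : Grassmannian A (A ⊗[R] B) d} (hN : IsStable N) : ∃ Z, grOf (R := R) (B := B) Z = N := by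
  let K : Ideal (A ⊗[R] B) :=
    { N.toSubmodule with
      smul_mem' := fun c x hx => by
        show c * x ∈ N.toSubmodule
        induction c using TensorProduct.induction_on with
        | zero => rw [zero_mul]; exact zero_mem _
        | add y w hy hw => rw [add_mul]; exact add_mem hy hw
        | tmul a b =>
          have : (a ⊗ₜ[R] b) * x = a • (((1 : A) ⊗ₜ[R] b) * x) := by
            rw [← smul_mul_assoc, TensorProduct.smul_tmul', smul_eq_mul, mul_one]
          rw [this]
          exact N.toSubmodule.smul_mem a (hN b x hx) }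
  have hK : K.restrictScalars A = N.toSubmodule := rfl
  let e : ((A ⊗[R] B) ⧸ K) ≃ₗ[A] (A ⊗[R] B) ⧸ N.toSubmodule :=
    (Submodule.Quotient.restrictScalarsEquiv A K).symm ≪≫ₗ Submodule.quotEquivOfEq _ _ hK
  let J := (sheafOf K).comap (inv (model B A))
  have hJ : J.comap (model B A) = sheafOf K := by
    simp only [J, ← Scheme.IdealSheafData.comap_comp, IsIso.hom_inv_id, Scheme.IdealSheafData.comap_id]
  have hdeg : Mor2.IsFinLocFreeOfDeg d (J.subschemeι ≫ PicF.XTproj (str R B) (test A)) := by
    rw [deg_model, hJ, deg_quot]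
    exact ⟨Module.Finite.equiv e.symm, Module.Projective.of_equiv e.symm,
      fun p => by rw [Module.rankAtStalk_eq_of_equiv e]; exact N.rankAtStalk_eq p⟩
  refine ⟨⟨J, hdeg⟩, Grassmannian.ext ?_⟩
  show (idealOf _).restrictScalars A = _
  rw [idealOf, hJ, topIdeal_sheafOf]
  exact hK

theorem idealOf_pull {A' : CommAlgCat.{u} R} (g : test A' ⟶ test A) (Z : HilbD.Obj (str R B) d (test A))
    (Z' : HilbD.Obj (str R B) d (test A')) (h : Z'.1 = HilbD.pull (str R B) g Z.1) :
    idealOf Z' = (idealOf Z).map (Algebra.TensorProduct.map (testHom g).hom (AlgHom.id R B)).toRingHom := by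
  rw [idealOf, idealOf, h, HilbCurveLib.pull_eq, ← Scheme.IdealSheafData.comap_comp, ← model_map,
    Scheme.IdealSheafData.comap_comp, topIdeal_comap]

theorem grOf_pull {A' : CommAlgCat.{u} R} (g : test A' ⟶ test A) (Z : HilbD.Obj (str R B) d (test A))
    (Z' : HilbD.Obj (str R B) d (test A')) (h : Z'.1 = HilbD.pull (str R B) g Z.1) :
    grOf Z' = Grassmannian.map (testHom g).hom (grOf Z) := by
  refine Grassmannian.ext (SetLike.ext fun x => ?_)
  show x ∈ idealOf Z' ↔ x ∈ (Grassmannian.map (testHom g).hom (grOf Z)).toSubmodule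
  rw [idealOf_pull g Z Z' h]
  set f := (testHom g).hom
  constructor
  · intro hx
    have hst : IsStable (Grassmannian.map f (grOf Z)) := (isStable_map_iff f (grOf Z)).2
      (((isStable_iff _).1 (isStable_grOf Z)).le.trans bot_le)
    induction hx using Submodule.span_induction with
    | mem y hy => obtain ⟨z, hz, rfl⟩ := hy; exact ext₁_mem_map f (grOf Z) hz
    | zero => exact zero_mem _
    | add y w _ _ hy hw => exact add_mem hy hw
    | smul c y _ hy =>
      rw [smul_eq_mul]
      induction c using TensorProduct.induction_on with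
      | zero => rw [zero_mul]; exact zero_mem _
      | add y w hy hw => rw [add_mul]; exact add_mem hy hw
      | tmul a b =>
        rw [show (a ⊗ₜ[R] b) * y = a • (((1 : A') ⊗ₜ[R] b) * y) by
          rw [← smul_mul_assoc, TensorProduct.smul_tmul', smul_eq_mul, mul_one]]
        exact Submodule.smul_mem _ a (hst b y hy)
  · intro hx
    letI : Algebra A A' := f.toAlgebra
    haveI : IsScalarTower R A A' := IsScalarTower.of_algebraMap_eq' f.comp_algebraMap.symm
    have hx0 : Grassmannian.baseChangeMkQ A' (grOf Z).toSubmodule x = 0 := by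
      rw [Grassmannian.map_toSubmodule] at hx
      exact hx
    have hex : Function.Exact ((grOf Z).toSubmodule.subtype.lTensor A') ((grOf Z).toSubmodule.mkQ.lTensor A') :=
      lTensor_exact A' (LinearMap.exact_subtype_mkQ _) (grOf Z).toSubmodule.mkQ_surjective
    obtain ⟨y, hy⟩ := (hex ((AlgebraTensorModule.cancelBaseChange R A A' A' B).symm x)).1 hx0
    have hx' : x = AlgebraTensorModule.cancelBaseChange R A A' A' B ((grOf Z).toSubmodule.subtype.lTensor A' y) := by
      rw [hy, LinearEquiv.apply_symm_apply]
    rw [hx']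
    clear hx' hy hx0 hx
    induction y using TensorProduct.induction_on with
    | zero => simp
    | add y w hy hw => rw [map_add, map_add]; exact add_mem hy hw
    | tmul c z =>
      rw [LinearMap.lTensor_tmul]
      have hcz : ∀ w : A ⊗[R] B, AlgebraTensorModule.cancelBaseChange R A A' A' B (c ⊗ₜ[A] w) =
          (c ⊗ₜ[R] (1 : B)) * Algebra.TensorProduct.map f (AlgHom.id R B) w := by
        intro w
        induction w using TensorProduct.induction_on with
        | zero => simp
        | tmul a b' =>
          simp only [AlgebraTensorModule.cancelBaseChange_tmul, Algebra.TensorProduct.map_tmul, AlgHom.id_apply,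
            Algebra.TensorProduct.tmul_mul_tmul, one_mul, Algebra.smul_def]
          rw [mul_comm c]
          rfl
        | add y w hy hw => rw [TensorProduct.tmul_add, map_add, map_add, mul_add, hy, hw]
      rw [hcz]
      exact Ideal.mul_mem_left _ _ (Ideal.mem_map_of_mem _ z.2)

end Groth.Agent.HilbRepLib
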