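import Mathlib
import Groth.Agent.HilbDescLib.AffinePoints

/-! A Zariski sheaf over an affine base which is representable on affine schemes is representable. -/

set_option autoImplicit false
set_option backward.isDefEq.respectTransparency false
set_option backward.isDefEq.respectTransparency.types false
set_option linter.style.haveILetI false

universe u

open CategoryTheory CategoryTheory.Limits AlgebraicGeometry Opposite

namespace Groth.Agent.HilbRepLib

open HilbDescLib

variable {R : Type u} [CommRing R] {F : (Over (Spec (CommRingCat.of R)))ᵒᵖ ⥤ Type u}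

theorem map_map' {P Q T : Over (Spec (CommRingCat.of R))} (h : P ⟶ Q) (g : Q ⟶ T) (x : F.obj (op T)) :
    F.map h.op (F.map g.op x) = F.map (h ≫ g).op x := by
  rw [← ConcreteCategory.comp_apply, ← F.map_comp]
  rfl

variable (hF : Presheaf.IsSheaf (Scheme.zariskiTopology.over (Spec (CommRingCat.of R))) F)

/-- The chart presieve of a scheme. -/
abbrev charts (Z : Over (Spec (CommRingCat.of R))) : Presieve Z :=
  Presieve.ofArrows (fun V => test (chartRing Z V)) (fun V => chartPt Z V)

include hF in
theorem isSheafFor_charts (Z : Over (Spec (CommRingCat.of R))) : Presieve.IsSheafFor F (charts Z) := by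
  rw [isSheaf_iff_isSheaf_of_type] at hF
  rw [Presieve.isSheafFor_iff_generate]
  refine hF _ ?_
  rw [GrothendieckTopology.mem_over_iff]
  refine GrothendieckTopology.superset_covering _ ?_
    (Scheme.Cover.mem_grothendieckTopology (P := @IsOpenImmersion)
      (Scheme.Cover.mkOfCovers Z.left.affineOpens (fun V => (test (chartRing Z V)).left) (fun V => (chartPt Z V).left)
        (fun x => ?_) (fun V => inferInstanceAs (IsOpenImmersion V.2.fromSpec))))
  · rw [Sieve.generate_le_iff]
    rintro _ _ ⟨V⟩
    exact (Sieve.overEquiv_iff _ _).mpr ⟨test (chartRing Z V), Over.homMk (𝟙 _) (by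
      simp only [Category.id_comp]
      exact (Over.w (chartPt Z V)).symm), chartPt Z V, Presieve.ofArrows.mk V, Over.OverMorphism.ext (Category.id_comp _)⟩
  · obtain ⟨_, ⟨V, hV, rfl⟩, hxV, -⟩ :=
      Z.left.isBasis_affineOpens.exists_subset_of_mem_open (Set.mem_univ x) isOpen_univ
    have hx : x ∈ Set.range hV.fromSpec := by rw [hV.range_fromSpec]; exact hxV
    obtain ⟨y, hy⟩ := hx
    exact ⟨⟨V, hV⟩, y, hy⟩

include hF in
theorem sep_test {Z : Over (Spec (CommRingCat.of R))} {s s' : F.obj (op Z)}
    (h : ∀ (A : CommAlgCat.{u} R) (k : test A ⟶ Z), F.map k.op s = F.map k.op s') : s = s' := by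
  refine (isSheafFor_charts hF Z).isSeparatedFor.ext fun Y g hg => ?_
  obtain ⟨V⟩ := hg
  exact h _ _

variable {X : Over (Spec (CommRingCat.of R))} (e : ∀ A : CommAlgCat.{u} R, (test A ⟶ X) ≃ F.obj (op (test A)))
  (he : ∀ (A B : CommAlgCat.{u} R) (h : test B ⟶ test A) (g : test A ⟶ X), e B (h ≫ g) = F.map h.op (e A g))

include hF he in
theorem exists_universal : ∃ u : F.obj (op X), ∀ T : Over (Spec (CommRingCat.of R)),
    Function.Bijective fun g : T ⟶ X => F.map g.op u := by
  obtain ⟨u, hu, -⟩ := (Presieve.isSheafFor_arrows_iff F (fun V => chartPt X V)).1 (isSheafFor_charts hF X)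
    (fun V => e _ (chartPt X V)) (fun V W Z gV gW hgw => sep_test hF fun A k => by
      rw [map_map', map_map', ← he, ← he, Category.assoc, Category.assoc, hgw])
  have hval : ∀ (A : CommAlgCat.{u} R) (g : test A ⟶ X), F.map g.op u = e A g := by
    intro A g
    let S₀ : Sieve (test A) :=
      { arrows := fun Y k => ∃ (V : X.left.affineOpens) (h : Y ⟶ test (chartRing X V)), h ≫ chartPt X V = k ≫ g
        downward_closed := fun {Y Z k} hk m => by
          obtain ⟨V, h, hh⟩ := hk
          exact ⟨V, m ≫ h, by rw [Category.assoc, hh, Category.assoc]⟩ }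
    have hcover : ∀ x : (test A).left, ∃ (V : X.left.affineOpens) (W : (test A).left.affineOpens),
        x ∈ W.1 ∧ W.1 ≤ g.left ⁻¹ᵁ V.1 := by
      intro x
      obtain ⟨_, ⟨V, hV, rfl⟩, hxV, -⟩ :=
        X.left.isBasis_affineOpens.exists_subset_of_mem_open (Set.mem_univ (g.left x)) isOpen_univ
      obtain ⟨W, hW, hxW, hWV⟩ := exists_isAffineOpen_mem_and_subset (show x ∈ g.left ⁻¹ᵁ V from hxV)
      exact ⟨⟨V, hV⟩, ⟨W, hW⟩, hxW, hWV⟩
    choose V W hxW hWV using hcover
    have hS₀ : S₀ ∈ Scheme.zariskiTopology.over (Spec (CommRingCat.of R)) (test A) := by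
      rw [GrothendieckTopology.mem_over_iff]
      refine GrothendieckTopology.superset_covering _ ?_
        (Scheme.Cover.mem_grothendieckTopology (P := @IsOpenImmersion)
          (Scheme.Cover.mkOfCovers (test A).left (fun x => Spec Γ((test A).left, (W x).1)) (fun x => (W x).2.fromSpec)
            (fun x => ⟨x, by
              have hx : x ∈ Set.range (W x).2.fromSpec := by rw [(W x).2.range_fromSpec]; exact hxW x
              exact hx⟩)
            (fun x => inferInstanceAs (IsOpenImmersion (W x).2.fromSpec))))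
      rw [Sieve.generate_le_iff]
      rintro _ _ ⟨x⟩
      refine (Sieve.overEquiv_iff _ _).mpr ⟨V x, Over.homMk
        (IsOpenImmersion.lift (V x).2.fromSpec ((W x).2.fromSpec ≫ g.left) ?_) ?_, ?_⟩
      · rintro _ ⟨y, rfl⟩
        exact (V x).2.range_fromSpec.ge (hWV x ((W x).2.range_fromSpec.le ⟨y, rfl⟩))
      · rw [← Over.w (chartPt X (V x))]
        show IsOpenImmersion.lift (V x).2.fromSpec _ _ ≫ (V x).2.fromSpec ≫ X.hom = _ ≫ (test A).hom
        rw [IsOpenImmersion.lift_fac_assoc, Category.assoc, Over.w g]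
        rfl
      · exact Over.OverMorphism.ext (IsOpenImmersion.lift_fac _ _ _)
    have hsh := ((isSheaf_iff_isSheaf_of_type _ _).1 hF) S₀ hS₀
    refine hsh.isSeparatedFor.ext fun Y k hk => ?_
    obtain ⟨U, h, hh⟩ := hk
    refine sep_test hF fun B b => ?_
    have h1 : (b ≫ h) ≫ chartPt X U = (b ≫ k) ≫ g := by rw [Category.assoc, hh, Category.assoc]
    rw [map_map', map_map', map_map', ← h1, ← map_map', hu, ← he, h1, he]
  refine ⟨u, fun T => ⟨fun g g' h => hom_ext_points fun A k => (e A).injective ?_, fun s => ?_⟩⟩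
  · have h' : F.map g.op u = F.map g'.op u := h
    rw [← hval, ← hval, ← map_map', ← map_map', h']
  · obtain ⟨c, hc⟩ := exists_hom_of_points (X := T) (Y := X) (fun A k => (e A).symm (F.map k.op s))
      (fun A B h k => (e B).injective (by rw [he, Equiv.apply_symm_apply, Equiv.apply_symm_apply, map_map']))
    exact ⟨c, sep_test hF fun A k => by rw [map_map', hc, hval, Equiv.apply_symm_apply]⟩

end Groth.Agent.HilbRepLib
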