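import Mathlib
import Groth.Agent.HilbRepLib.Affine
import Groth.Agent.HilbRepLib.FromAffine
import Groth.Agent.S14853
import Groth.Agent.S1168

/-! The Hilbert scheme of points of an affine scheme over an affine scheme. -/

set_option autoImplicit false
set_option backward.isDefEq.respectTransparency false
set_option backward.isDefEq.respectTransparency.types false
set_option linter.style.haveILetI false
set_option maxHeartbeats 800000

universe u

open CategoryTheory CategoryTheory.Limits AlgebraicGeometry Opposite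

namespace Groth.Agent.HilbRepLib

open HilbDescLib GrassRepLib

theorem representable_spec (R : Type u) [CommRing R] (B : Type u) [CommRing B] [Algebra R B] (d : ℕ) :
    HilbD.Representable (str R B) d := by
  obtain ⟨G, eG, heG⟩ := exists_represents (R := R) B d
  obtain ⟨Z, ι, hι, hZ⟩ := S14853.result R B d G eG heG
  let H : Over (Spec (CommRingCat.of R)) := Over.mk (ι ≫ G.hom)
  let j : H ⟶ G := Over.homMk ι rfl
  haveI : Mono j := Over.mono_of_mono_left j
  have hst : ∀ (A : CommAlgCat.{u} R) (h : test A ⟶ H), IsStable (eG A (h ≫ j)) :=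
    fun A h => (hZ A (h ≫ j)).1 ⟨h.left, rfl⟩
  choose ob hob using fun (A : CommAlgCat.{u} R) (h : test A ⟶ H) => exists_grOf (hst A h)
  have hinj : ∀ A, Function.Injective (ob A) := fun A h h' e =>
    (cancel_mono j).1 ((eG A).injective (by rw [← hob A h, ← hob A h', e]))
  have hsurj : ∀ A, Function.Surjective (ob A) := by
    intro A W
    obtain ⟨m, hm⟩ := (hZ A ((eG A).symm (grOf W))).2 (by rw [Equiv.apply_symm_apply]; exact isStable_grOf W)
    let h : test A ⟶ H := Over.homMk m (show m ≫ ι ≫ G.hom = _ by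
      rw [reassoc_of% hm]
      exact Over.w ((eG A).symm (grOf W)))
    refine ⟨h, grOf_injective ?_⟩
    rw [hob, show h ≫ j = (eG A).symm (grOf W) from Over.OverMorphism.ext hm, Equiv.apply_symm_apply]
  let e : ∀ A : CommAlgCat.{u} R, (test A ⟶ H) ≃ (hilb (str R B) d).obj (op (test A)) :=
    fun A => Equiv.ofBijective (ob A) ⟨hinj A, hsurj A⟩
  have he : ∀ (A A' : CommAlgCat.{u} R) (h : test A' ⟶ test A) (g : test A ⟶ H),
      e A' (h ≫ g) = (hilb (str R B) d).map h.op (e A g) := by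
    intro A A' h g
    refine grOf_injective ?_
    rw [grOf_pull h (e A g) ((hilb (str R B) d).map h.op (e A g)) rfl]
    show grOf (ob A' (h ≫ g)) = Module.Grassmannian.map (testHom h).hom (grOf (ob A g))
    rw [hob, hob, Category.assoc, points_natural eG heG]
    rfl
  obtain ⟨u, hu⟩ := exists_universal (isSheaf_hilb (str R B) d) e he
  refine ⟨H, u, fun T W => ?_⟩
  obtain ⟨g, hg, huniq⟩ := (hu T).existsUnique W
  exact ⟨g, congrArg Subtype.val hg, fun g' hg' => huniq g' (Subtype.ext hg')⟩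

section transfer

variable {X S S' : Scheme.{u}} (f : X ⟶ S) (b : S ⟶ S') [IsIso b]

/-- Changing the base along an isomorphism. -/
noncomputable def baseIso (T : Over S) : PicF.XT f T ⟶ PicF.XT (f ≫ b) (Over.mk (T.hom ≫ b)) :=
  pullback.map f T.hom (f ≫ b) (T.hom ≫ b) (𝟙 X) (𝟙 T.left) b (Category.id_comp _).symm (Category.id_comp _).symm

instance (T : Over S) : IsIso (baseIso f b T) := by
  refine ⟨pullback.lift (pullback.fst _ _) (pullback.snd _ _) ?_, ?_, ?_⟩
  · rw [← cancel_mono b, Category.assoc, Category.assoc]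
    exact pullback.condition
  · apply pullback.hom_ext <;> simp [baseIso]
  · apply pullback.hom_ext <;> simp [baseIso]

theorem baseIso_proj (T : Over S) : baseIso f b T ≫ PicF.XTproj (f ≫ b) (Over.mk (T.hom ≫ b)) = PicF.XTproj f T := by
  show baseIso f b T ≫ pullback.snd _ _ = pullback.snd _ _
  simp [baseIso]

theorem deg_baseIso {d : ℕ} (T : Over S) (J : (PicF.XT (f ≫ b) (Over.mk (T.hom ≫ b))).IdealSheafData) :
    Mor2.IsFinLocFreeOfDeg d (J.subschemeι ≫ PicF.XTproj (f ≫ b) (Over.mk (T.hom ≫ b))) ↔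
      Mor2.IsFinLocFreeOfDeg d ((J.comap (baseIso f b T)).subschemeι ≫ PicF.XTproj f T) := by
  rw [← baseIso_proj f b T, ← Category.assoc ((J.comap (baseIso f b T)).subschemeι)]
  have h : (J.comap (baseIso f b T)).subschemeι ≫ baseIso f b T =
      ((J.comapIso (baseIso f b T)).hom ≫ pullback.snd (baseIso f b T) J.subschemeι) ≫ J.subschemeι := by
    rw [Category.assoc, ← pullback.condition, Scheme.IdealSheafData.comapIso_hom_fst_assoc]
  rw [h, Category.assoc]
  exact deg_comp_iso ((J.comapIso (baseIso f b T)).hom ≫ pullback.snd (baseIso f b T) J.subschemeι) _ d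

theorem representable_of_comp_iso {d : ℕ} (h : HilbD.Representable (f ≫ b) d) : HilbD.Representable f d := by
  obtain ⟨H, Z, hZ⟩ := h
  let H₀ : Over S := Over.mk (H.hom ≫ inv b)
  let ε : Over.mk (H₀.hom ≫ b) ⟶ H := Over.homMk (𝟙 H.left) (by simp [H₀])
  let Z₀ : HilbD.Obj (f ≫ b) d (Over.mk (H₀.hom ≫ b)) := ⟨HilbD.pull (f ≫ b) ε Z.1, HilbCurveLib.pull_deg (f ≫ b) ε Z.2⟩
  refine ⟨H₀, ⟨Z₀.1.comap (baseIso f b H₀), (deg_baseIso f b H₀ _).1 Z₀.2⟩, fun T W => ?_⟩
  let T' : Over S' := Over.mk (T.hom ≫ b)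
  let W' : HilbD.Obj (f ≫ b) d T' := ⟨W.1.comap (inv (baseIso f b T)), (deg_baseIso f b T _).2 (by
    rw [← Scheme.IdealSheafData.comap_comp, IsIso.hom_inv_id, Scheme.IdealSheafData.comap_id]
    exact W.2)⟩
  obtain ⟨g, hg, huniq⟩ := hZ T' W'
  have hnat : ∀ m : T ⟶ H₀,
      HilbD.pull f m (Z₀.1.comap (baseIso f b H₀)) =
        (HilbD.pull (f ≫ b) ((Over.homMk m.left (by show m.left ≫ H.hom = T.hom ≫ b; rw [← Over.w m]; simp [H₀]) : T' ⟶ H)) Z.1).comap (baseIso f b T) := by
    intro m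
    rw [HilbCurveLib.pull_eq, HilbCurveLib.pull_eq, ← Scheme.IdealSheafData.comap_comp, ← Scheme.IdealSheafData.comap_comp]
    show (HilbD.pull (f ≫ b) ε Z.1).comap _ = _
    rw [HilbCurveLib.pull_eq, ← Scheme.IdealSheafData.comap_comp]
    congr 1
    apply pullback.hom_ext <;> simp [baseIso, PicF.XTmap, ε, T'] <;> exact congrArg (_ ≫ ·) (Category.comp_id _)
  let g₀ : T ⟶ H₀ := Over.homMk g.left (by
    show g.left ≫ H.hom ≫ inv b = T.hom
    rw [← Category.assoc, Over.w g]
    simp [T'])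
  refine ⟨g₀, ?_, fun m hm => ?_⟩
  · show HilbD.pull f g₀ _ = _
    rw [hnat, show (Over.homMk g₀.left _ : T' ⟶ H) = g from Over.OverMorphism.ext rfl, hg,
      ← Scheme.IdealSheafData.comap_comp, IsIso.hom_inv_id, Scheme.IdealSheafData.comap_id]
  · have hm' : HilbD.pull f m (Z₀.1.comap (baseIso f b H₀)) = W.1 := hm
    rw [hnat] at hm'
    have h2 := congrArg (fun J => J.comap (inv (baseIso f b T))) hm'
    simp only [← Scheme.IdealSheafData.comap_comp, IsIso.inv_hom_id, Scheme.IdealSheafData.comap_id] at h2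
    have h3 := huniq _ h2
    exact Over.OverMorphism.ext (congrArg (fun k : T' ⟶ H => k.left) h3)

end transfer

theorem representable_affine {X S : Scheme.{u}} [IsAffine X] [IsAffine S] (f : X ⟶ S) (d : ℕ) :
    HilbD.Representable f d := by
  let φ := Spec.preimage (X.isoSpec.inv ≫ f ≫ S.isoSpec.hom)
  letI : Algebra Γ(S, ⊤) Γ(X, ⊤) := φ.hom.toAlgebra
  obtain ⟨H, Z, hZ⟩ := representable_spec Γ(S, ⊤) Γ(X, ⊤) d
  have h2 : HilbD.Representable (X.isoSpec.hom ≫ str Γ(S, ⊤) Γ(X, ⊤)) d :=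
    (S1168.result X.isoSpec.hom _ d H Z hZ).1
  have e : X.isoSpec.hom ≫ str Γ(S, ⊤) Γ(X, ⊤) = f ≫ S.isoSpec.hom := by
    show _ ≫ Spec.map φ = _
    rw [Spec.map_preimage, Iso.hom_inv_id_assoc]
  rw [e] at h2
  exact representable_of_comp_iso f S.isoSpec.hom h2

end Groth.Agent.HilbRepLib
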