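import Mathlib
import Groth.Agent.HilbRepLib.Affine

/-! Families of points inside an open subscheme. -/

set_option autoImplicit false
set_option backward.isDefEq.respectTransparency false
set_option backward.isDefEq.respectTransparency.types false
set_option linter.style.haveILetI false
set_option maxHeartbeats 800000

universe u

open CategoryTheory CategoryTheory.Limits AlgebraicGeometry

namespace Groth.Agent.HilbRepLib

variable {X S U S₀ : Scheme.{u}} {f : X ⟶ S} {g : U ⟶ S₀} {b : S₀ ⟶ S} {j : U ⟶ X} (w : g ≫ b = j ≫ f) {d : ℕ}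

/-- A scheme over the open piece as a scheme over the base. -/
noncomputable abbrev bT (b : S₀ ⟶ S) (T : Over S₀) : Over S := Over.mk (T.hom ≫ b)

/-- A morphism over the open piece as a morphism over the base. -/
noncomputable abbrev bHom (b : S₀ ⟶ S) {T' T : Over S₀} (m : T' ⟶ T) : bT b T' ⟶ bT b T :=
  Over.homMk m.left (by simp)

/-- The inclusion of the piece. -/
noncomputable def jT (T : Over S₀) : PicF.XT g T ⟶ PicF.XT f (bT b T) :=
  pullback.map g T.hom f (T.hom ≫ b) j (𝟙 T.left) b w (Category.id_comp _).symm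

theorem jT_proj (T : Over S₀) : jT w T ≫ PicF.XTproj f (bT b T) = PicF.XTproj g T := by
  show jT w T ≫ pullback.snd _ _ = pullback.snd _ _
  simp [jT]

theorem jT_fst (T : Over S₀) : jT w T ≫ pullback.fst f (bT b T).hom = pullback.fst g T.hom ≫ j := by
  simp [jT]

theorem jT_natural {T' T : Over S₀} (m : T' ⟶ T) :
    PicF.XTmap g m ≫ jT w T = jT w T' ≫ PicF.XTmap f (bHom b m) := by
  apply pullback.hom_ext <;> simp [jT, PicF.XTmap, pullback.map]

section mono
variable [Mono b]

theorem isPullback_jT (T : Over S₀) :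
    IsPullback (pullback.fst g T.hom) (jT w T) j (pullback.fst f (bT b T).hom) := by
  refine IsPullback.of_bot ?_ (jT_fst w T).symm (IsPullback.of_hasPullback f (bT b T).hom)
  rw [show jT w T ≫ pullback.snd f (bT b T).hom = pullback.snd g T.hom from jT_proj w T, ← w]
  exact IsPullback.of_isLimit (pullbackIsPullbackOfCompMono g T.hom b)

variable [IsOpenImmersion j]

include w in
theorem isOpenImmersion_jT (T : Over S₀) : IsOpenImmersion (jT w T) :=
  MorphismProperty.of_isPullback (P := @IsOpenImmersion) (isPullback_jT w T) inferInstance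

theorem mem_range_jT (T : Over S₀) (z : (PicF.XT f (bT b T) : Scheme.{u})) :
    z ∈ Set.range (jT w T) ↔ pullback.fst f (bT b T).hom z ∈ Set.range j := by
  constructor
  · rintro ⟨v, rfl⟩
    refine ⟨pullback.fst g T.hom v, ?_⟩
    rw [← Scheme.Hom.comp_apply, ← Scheme.Hom.comp_apply, jT_fst]
  · rintro ⟨v, hv⟩
    obtain ⟨p, -, hp⟩ := Scheme.exists_preimage_of_isPullback (isPullback_jT w T) v z hv
    exact ⟨p, hp⟩

variable [IsSeparated f]

include w in
theorem isClosedImmersion_q (T : Over S₀) {J : (PicF.XT g T).IdealSheafData}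
    (hJ : Mor2.IsFinLocFreeOfDeg d (J.subschemeι ≫ PicF.XTproj g T)) : IsClosedImmersion (J.subschemeι ≫ jT w T) := by
  haveI := isOpenImmersion_jT w T
  haveI : IsFinite ((J.subschemeι ≫ jT w T) ≫ PicF.XTproj f (bT b T)) := by
    rw [Category.assoc, jT_proj]
    exact hJ.1.1
  haveI : IsSeparated (PicF.XTproj f (bT b T)) :=
    MorphismProperty.pullback_snd (P := @IsSeparated) f _ inferInstance
  haveI : IsFinite (J.subschemeι ≫ jT w T) := IsFinite.of_comp _ (PicF.XTproj f (bT b T))
  exact IsClosedImmersion.of_isPreimmersion _ (Scheme.Hom.isClosedMap _).isClosed_range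

/-- The family in the whole scheme. -/
noncomputable def pushO {T : Over S₀} (Z : HilbD.Obj g d T) : HilbD.Obj f d (bT b T) :=
  ⟨(Z.1.subschemeι ≫ jT w T).ker, by
    haveI := isClosedImmersion_q w T Z.2
    let q := Z.1.subschemeι ≫ jT w T
    show Mor2.IsFinLocFreeOfDeg d (q.imageι ≫ PicF.XTproj f (bT b T))
    rw [deg_comp_iso q.toImage, ← Category.assoc, q.toImage_imageι, Category.assoc, jT_proj]
    exact Z.2⟩

theorem comap_pushO {T : Over S₀} (Z : HilbD.Obj g d T) : (pushO w Z).1.comap (jT w T) = Z.1 := by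
  haveI := isClosedImmersion_q w T Z.2
  haveI := isOpenImmersion_jT w T
  have sq : IsPullback Z.1.subschemeι (𝟙 Z.1.subscheme) (jT w T) (Z.1.subschemeι ≫ jT w T) :=
    IsPullback.of_vert_isIso_mono ⟨by simp⟩
  exact (HilbCurveLib.ker_of_isPullback sq).symm.trans Z.1.ker_subschemeι

theorem pushO_injective {T : Over S₀} : Function.Injective (pushO (d := d) w (T := T)) := fun Z Z' h =>
  Subtype.ext (by rw [← comap_pushO w Z, h, comap_pushO])

/-- The family lies in the open. -/
def InO (j : U ⟶ X) {T : Over S} (W : (PicF.XT f T).IdealSheafData) : Prop :=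
  ∀ z : W.subscheme, pullback.fst f T.hom (W.subschemeι z) ∈ Set.range j

theorem inO_pull {T' T : Over S} (m : T' ⟶ T) {W : (PicF.XT f T).IdealSheafData} (h : InO j W) :
    InO j (HilbD.pull f m W) := by
  rw [HilbCurveLib.pull_eq]
  intro z
  have e : (W.comap (PicF.XTmap f m)).subschemeι ≫ pullback.fst f T'.hom =
      ((W.comapIso (PicF.XTmap f m)).hom ≫ pullback.snd _ _) ≫ W.subschemeι ≫ pullback.fst f T.hom := by
    rw [Category.assoc, ← pullback.condition_assoc, Scheme.IdealSheafData.comapIso_hom_fst_assoc, HilbCurveLib.XTmap_fst]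
  rw [← Scheme.Hom.comp_apply, e, Scheme.Hom.comp_apply, Scheme.Hom.comp_apply]
  exact h _

theorem inO_pushO {T : Over S₀} (Z : HilbD.Obj g d T) : InO j (pushO w Z).1 := by
  haveI := isClosedImmersion_q w T Z.2
  intro z
  let q := Z.1.subschemeι ≫ jT w T
  obtain ⟨z', rfl⟩ := q.toImage.surjective z
  have e : q.imageι (q.toImage z') = q z' := by
    rw [← Scheme.Hom.comp_apply, q.toImage_imageι]
  show pullback.fst f _ (q.imageι (q.toImage z')) ∈ _
  rw [e]
  exact (mem_range_jT w T _).1 ⟨Z.1.subschemeι z', rfl⟩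

theorem exists_pushO {T : Over S₀} (W : HilbD.Obj f d (bT b T)) (h : InO j W.1) :
    ∃ Z : HilbD.Obj g d T, pushO w Z = W := by
  haveI := isOpenImmersion_jT w T
  have hr : Set.range W.1.subschemeι ⊆ Set.range (jT w T) := by
    rintro _ ⟨z, rfl⟩
    exact (mem_range_jT w T _).2 (h z)
  let l := IsOpenImmersion.lift (jT w T) W.1.subschemeι hr
  have hl : l ≫ jT w T = W.1.subschemeι := IsOpenImmersion.lift_fac _ _ _
  haveI : IsClosedImmersion (l ≫ jT w T) := hl ▸ inferInstance
  haveI : IsClosedImmersion l := IsClosedImmersion.of_comp l (jT w T)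
  have hd : Mor2.IsFinLocFreeOfDeg d (l.ker.subschemeι ≫ PicF.XTproj g T) := by
    show Mor2.IsFinLocFreeOfDeg d (l.imageι ≫ PicF.XTproj g T)
    rw [deg_comp_iso l.toImage, ← Category.assoc, l.toImage_imageι, ← jT_proj w T, ← Category.assoc, hl]
    exact W.2
  refine ⟨⟨l.ker, hd⟩, Subtype.ext ?_⟩
  show (l.ker.subschemeι ≫ jT w T).ker = W.1
  refine (Scheme.Hom.ker_comp_of_isIso l.toImage _).symm.trans ?_
  rw [← Category.assoc]
  show ((l.toImage ≫ l.imageι) ≫ jT w T).ker = W.1
  rw [l.toImage_imageι, hl, W.1.ker_subschemeι]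

theorem pull_pushO {T' T : Over S₀} (m : T' ⟶ T) (Z : HilbD.Obj g d T) :
    HilbD.pull f (bHom b m) (pushO w Z).1 = (pushO w (⟨HilbD.pull g m Z.1, HilbCurveLib.pull_deg g m Z.2⟩ : HilbD.Obj g d T')).1 := by
  obtain ⟨Z', hZ'⟩ := exists_pushO w ⟨_, HilbCurveLib.pull_deg f (bHom b m) (pushO w Z).2⟩ (inO_pull (bHom b m) (inO_pushO w Z))
  have h : Z' = ⟨HilbD.pull g m Z.1, HilbCurveLib.pull_deg g m Z.2⟩ := Subtype.ext (by
    rw [← comap_pushO w Z', hZ']
    show (HilbD.pull f (bHom b m) (pushO w Z).1).comap _ = HilbD.pull g m Z.1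
    rw [HilbCurveLib.pull_eq, HilbCurveLib.pull_eq, ← Scheme.IdealSheafData.comap_comp, ← jT_natural,
      Scheme.IdealSheafData.comap_comp, comap_pushO])
  rw [← h, hZ']

end mono

end Groth.Agent.HilbRepLib
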