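import Mathlib
import Groth.Agent.HilbRepLib.Main
import Groth.Agent.HilbRepLib.OpenPush
import Groth.Agent.OverRep.Main
import Groth.Agent.QuotLib.AffineQuot
import Groth.Agent.BddFibLib.Points
import Groth.Agent.BddFibLib.Ops

/-! The Hilbert scheme of points when finitely many points of a fibre lie in an affine open. -/

set_option autoImplicit false
set_option backward.isDefEq.respectTransparency false
set_option backward.isDefEq.respectTransparency.types false
set_option linter.style.haveILetI false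
set_option maxHeartbeats 800000

universe u

open CategoryTheory CategoryTheory.Limits AlgebraicGeometry Opposite

namespace Groth.Agent.HilbRepLib

variable {X S : Scheme.{u}} (f : X ⟶ S) {d : ℕ}

/-- The points over which a family lies in a given piece. -/
def goodSet (S₀ : S.Opens) (U : X.Opens) {T : Over S} (W : (PicF.XT f T).IdealSheafData) : Set T.left :=
  {t | T.hom t ∈ S₀ ∧ ∀ z : W.subscheme, (W.subschemeι ≫ PicF.XTproj f T) z = t →
    (W.subschemeι ≫ pullback.fst f T.hom) z ∈ U}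

theorem isOpen_goodSet (S₀ : S.Opens) (U : X.Opens) {T : Over S} (W : HilbD.Obj f d T) :
    IsOpen (goodSet f S₀ U W.1) := by
  let a := W.1.subschemeι ≫ PicF.XTproj f T
  haveI : IsFinite a := W.2.1.1
  let E : Set W.1.subscheme := (W.1.subschemeι ≫ pullback.fst f T.hom) ⁻¹' (U : Set X)ᶜ
  have hE : IsClosed (a '' E) := a.isClosedMap _ (U.2.isClosed_compl.preimage (Scheme.Hom.continuous _))
  have e : goodSet f S₀ U W.1 = (T.hom ⁻¹ᵁ S₀ : Set T.left) ∩ (a '' E)ᶜ := by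
    ext t
    constructor
    · rintro ⟨h1, h2⟩
      exact ⟨h1, fun ⟨z, hz, hzt⟩ => hz (h2 z hzt)⟩
    · rintro ⟨h1, h2⟩
      exact ⟨h1, fun z hzt => by_contra fun hz => h2 ⟨z, hz, hzt⟩⟩
  rw [e]
  exact (T.hom ⁻¹ᵁ S₀).2.inter hE.isOpen_compl

/-- The good set of a pulled back family. -/
theorem goodSet_pull (S₀ : S.Opens) (U : X.Opens) {T' T : Over S} (t : T' ⟶ T) (W : (PicF.XT f T).IdealSheafData) :
    goodSet f S₀ U (HilbD.pull f t W) = t.left ⁻¹' goodSet f S₀ U W := by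
  rw [HilbCurveLib.pull_eq]
  let a : (W.comap (PicF.XTmap f t)).subscheme ⟶ W.subscheme :=
    (W.comapIso (PicF.XTmap f t)).hom ≫ pullback.snd _ _
  have sq : IsPullback ((W.comap (PicF.XTmap f t)).subschemeι ≫ PicF.XTproj f T') a t.left
      (W.subschemeι ≫ PicF.XTproj f T) :=
    HilbCurveLib.isPullback_comap (HilbCurveLib.isPullback_XTmap f t) W
  have ha : a ≫ W.subschemeι ≫ pullback.fst f T.hom = (W.comap (PicF.XTmap f t)).subschemeι ≫ pullback.fst f T'.hom := by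
    simp only [a, Category.assoc]
    rw [← pullback.condition_assoc, Scheme.IdealSheafData.comapIso_hom_fst_assoc, HilbCurveLib.XTmap_fst]
  have hT : ∀ y, T.hom (t.left y) = T'.hom y := fun y => by rw [← Scheme.Hom.comp_apply, Over.w t]
  ext y
  constructor
  · rintro ⟨h1, h2⟩
    refine ⟨(hT y).symm ▸ h1, fun z hz => ?_⟩
    obtain ⟨z', hz1, hz2⟩ := Scheme.exists_preimage_of_isPullback sq y z hz.symm
    have := h2 z' hz1
    rw [← ha, Scheme.Hom.comp_apply, hz2] at this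
    exact this
  · rintro ⟨h1, h2⟩
    refine ⟨(hT y) ▸ h1, fun z hz => ?_⟩
    rw [← ha, Scheme.Hom.comp_apply]
    refine h2 (a z) ?_
    rw [← Scheme.Hom.comp_apply, ← sq.w, Scheme.Hom.comp_apply, hz]

theorem goodSet_eq_univ_iff (S₀ : S.Opens) (U : X.Opens) {T : Over S} (W : (PicF.XT f T).IdealSheafData) :
    goodSet f S₀ U W = Set.univ ↔ Set.range T.hom ⊆ S₀ ∧ InO U.ι W := by
  rw [InO, Set.eq_univ_iff_forall]
  simp only [Scheme.Opens.range_ι, SetLike.mem_coe]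
  constructor
  · intro h
    exact ⟨by rintro _ ⟨y, rfl⟩; exact (h y).1, fun z => (h _).2 z rfl⟩
  · rintro ⟨h1, h2⟩ y
    exact ⟨h1 ⟨y, rfl⟩, fun z _ => h2 z⟩

variable [IsSeparated f]

/-- The index of a piece. -/
def Piece : Type u := {p : S.affineOpens × X.affineOpens // p.2.1 ≤ f ⁻¹ᵁ p.1.1}

section piece
variable {S₀ : S.Opens} {U : X.Opens} {g : U.toScheme ⟶ S₀.toScheme} {H : Over S₀.toScheme} {Z : HilbD.Obj g d H}

theorem piece_univ (hw : g ≫ S₀.ι = U.ι ≫ f) (Z : HilbD.Obj g d H) : goodSet f S₀ U (pushO hw Z).1 = Set.univ := by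
  rw [goodSet_eq_univ_iff]
  refine ⟨?_, inO_pushO hw Z⟩
  rintro _ ⟨y, rfl⟩
  exact (H.hom y).2

theorem piece_inj (hw : g ≫ S₀.ι = U.ι ≫ f) (hZ : HilbD.IsUniversal g d H Z) (T : Over S) (a a' : T ⟶ bT S₀.ι H)
    (hq : (hilb f d).map a.op (pushO hw Z) = (hilb f d).map a'.op (pushO hw Z)) : a = a' := by
  let T₀ : Over S₀.toScheme := Over.mk (a.left ≫ H.hom)
  let ε : bT S₀.ι T₀ ⟶ T := Over.homMk (𝟙 T.left) (by
    show 𝟙 _ ≫ T.hom = (a.left ≫ H.hom) ≫ _
    rw [Category.id_comp, Category.assoc]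
    exact (Over.w a).symm)
  have h' : a'.left ≫ H.hom = a.left ≫ H.hom := by
    rw [← cancel_mono S₀.ι, Category.assoc, Category.assoc]
    exact (Over.w a').trans (Over.w a).symm
  let m : T₀ ⟶ H := Over.homMk a.left rfl
  let m' : T₀ ⟶ H := Over.homMk a'.left h'
  have e1 : bHom S₀.ι m = ε ≫ a := Over.OverMorphism.ext (Category.id_comp _).symm
  have e2 : bHom S₀.ι m' = ε ≫ a' := Over.OverMorphism.ext (Category.id_comp _).symm
  have h3 : HilbD.pull f (bHom S₀.ι m) (pushO hw Z).1 = HilbD.pull f (bHom S₀.ι m') (pushO hw Z).1 := by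
    rw [e1, e2, HilbCurveLib.pull_comp, HilbCurveLib.pull_comp]
    exact congrArg (HilbD.pull f ε) (congrArg Subtype.val hq)
  rw [pull_pushO, pull_pushO] at h3
  have h4 := congrArg Subtype.val (pushO_injective hw (Subtype.ext h3))
  obtain ⟨k, -, hk⟩ := hZ T₀ ⟨HilbD.pull g m Z.1, HilbCurveLib.pull_deg g m Z.2⟩
  have h5 : m = m' := (hk m rfl).trans (hk m' h4.symm).symm
  exact Over.OverMorphism.ext (congrArg (fun k : T₀ ⟶ H => k.left) h5)

theorem piece_key (hw : g ≫ S₀.ι = U.ι ≫ f) (hZ : HilbD.IsUniversal g d H Z) (T : Over S) (s : HilbD.Obj f d T)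
    (T' : Over S) (t : T' ⟶ T) :
    (∃ a : T' ⟶ bT S₀.ι H, (hilb f d).map a.op (pushO hw Z) = (hilb f d).map t.op s) ↔
      Set.range t.left ⊆ goodSet f S₀ U s.1 := by
  constructor
  · rintro ⟨a, ha⟩ _ ⟨y, rfl⟩
    have h1 : goodSet f S₀ U (HilbD.pull f a (pushO hw Z).1) = Set.univ := by
      rw [goodSet_pull, piece_univ f hw Z, Set.preimage_univ]
    rw [show HilbD.pull f a (pushO hw Z).1 = HilbD.pull f t s.1 from congrArg Subtype.val ha, goodSet_pull] at h1
    exact h1.ge (Set.mem_univ y)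
  · intro hr
    have h1 : goodSet f S₀ U (HilbD.pull f t s.1) = Set.univ := by
      rw [goodSet_pull]
      exact Set.eq_univ_of_forall fun y => hr ⟨y, rfl⟩
    rw [goodSet_eq_univ_iff] at h1
    have hr' : Set.range T'.hom ⊆ Set.range S₀.ι := by rw [Scheme.Opens.range_ι]; exact h1.1
    let T₀ : Over S₀.toScheme := Over.mk (IsOpenImmersion.lift S₀.ι T'.hom hr')
    let ε : bT S₀.ι T₀ ⟶ T' := Over.homMk (𝟙 T'.left) (by
      show 𝟙 _ ≫ T'.hom = IsOpenImmersion.lift _ _ _ ≫ _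
      rw [Category.id_comp, IsOpenImmersion.lift_fac])
    let ε' : T' ⟶ bT S₀.ι T₀ := Over.homMk (𝟙 T'.left) (by
      show 𝟙 _ ≫ IsOpenImmersion.lift _ _ _ ≫ _ = T'.hom
      rw [Category.id_comp, IsOpenImmersion.lift_fac])
    have hεε : ε' ≫ ε = 𝟙 T' := Over.OverMorphism.ext (Category.id_comp _)
    obtain ⟨W₀, hW₀⟩ := exists_pushO hw
      (⟨HilbD.pull f ε (HilbD.pull f t s.1), HilbCurveLib.pull_deg f ε (HilbCurveLib.pull_deg f t s.2)⟩ :
        HilbD.Obj f d (bT S₀.ι T₀)) (inO_pull ε h1.2)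
    obtain ⟨m, hm, -⟩ := hZ T₀ W₀
    refine ⟨ε' ≫ bHom S₀.ι m, Subtype.ext ?_⟩
    show HilbD.pull f (ε' ≫ bHom S₀.ι m) (pushO hw Z).1 = HilbD.pull f t s.1
    rw [HilbCurveLib.pull_comp, pull_pushO, show (⟨HilbD.pull g m Z.1, HilbCurveLib.pull_deg g m Z.2⟩ :
      HilbD.Obj g d T₀) = W₀ from Subtype.ext hm, hW₀]
    show HilbD.pull f ε' (HilbD.pull f ε (HilbD.pull f t s.1)) = _
    rw [← HilbCurveLib.pull_comp, hεε, HilbDescLib.pull_id]

end piece

omit [IsSeparated f] in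
theorem exists_piece (h : ∀ (s : S) (x : Fin d → X), (∀ i, f.base (x i) = s) → ∃ U : X.Opens, IsAffineOpen U ∧ ∀ i, x i ∈ U)
    (T : Over S) (s : HilbD.Obj f d T) (y : T.left) : ∃ p : Piece f, y ∈ goodSet f p.1.1.1 p.1.2.1 s.1 := by
  obtain ⟨_, ⟨S₀, hS₀, rfl⟩, hyS, -⟩ :=
    S.isBasis_affineOpens.exists_subset_of_mem_open (Set.mem_univ (T.hom y)) isOpen_univ
  let a := s.1.subschemeι ≫ PicF.XTproj f T
  haveI : IsFinite a := s.2.1.1
  haveI : Flat a := s.2.1.2.1
  have hcard : Finite (a.fiber y) ∧ Nat.card (a.fiber y) ≤ d :=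
    BddFibLib.card_le (BddFibLib.fibreDegLE_of_finrank a d s.2.2 y)
  haveI := hcard.1
  let φ : a.fiber y → X := fun z => (s.1.subschemeι ≫ pullback.fst f T.hom) (a.fiberι y z)
  have hφ : ∀ z, f (φ z) = T.hom y := by
    intro z
    have hz : a.fiberι y z ∈ a ⁻¹' {y} := by rw [← a.range_fiberι]; exact ⟨z, rfl⟩
    show f ((s.1.subschemeι ≫ pullback.fst f T.hom) _) = _
    rw [← Scheme.Hom.comp_apply, Category.assoc, pullback.condition, ← Category.assoc, Scheme.Hom.comp_apply]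
    exact congrArg T.hom hz
  obtain ⟨U, hU, hUφ⟩ : ∃ U : X.Opens, IsAffineOpen U ∧ ∀ z, φ z ∈ U := by
    rcases isEmpty_or_nonempty (a.fiber y) with he | ⟨⟨z₀⟩⟩
    · exact ⟨⊥, isAffineOpen_bot X, fun z => he.elim z⟩
    · let n := Nat.card (a.fiber y)
      let eqv : a.fiber y ≃ Fin n := Finite.equivFin _
      let x : Fin d → X := fun i => if hi : i.1 < n then φ (eqv.symm ⟨i.1, hi⟩) else φ z₀
      obtain ⟨U, hU, hx⟩ := h (T.hom y) x (fun i => by
        show f (x i) = _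
        simp only [x]; split <;> exact hφ _)
      refine ⟨U, hU, fun z => ?_⟩
      have := hx ⟨(eqv z).1, lt_of_lt_of_le (eqv z).2 hcard.2⟩
      simpa [x] using this
  obtain ⟨r, hr, hrφ⟩ := QuotLib.exists_basicOpen_finite hU (f ⁻¹ᵁ S₀) φ hUφ
    (fun z => show f (φ z) ∈ S₀ by rw [hφ]; exact hyS)
  refine ⟨⟨(⟨S₀, hS₀⟩, ⟨X.basicOpen r, hU.basicOpen r⟩), hr⟩, hyS, fun z hz => ?_⟩
  obtain ⟨z', rfl⟩ : z ∈ Set.range (a.fiberι y) := by rw [a.range_fiberι]; exact hz
  exact hrφ z'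

omit [IsSeparated f] in
theorem representable_of_pieces {ι : Type u} (Zs : ι → Over S) (e : ∀ i, HilbD.Obj f d (Zs i))
    (V : ι → ∀ (T : Over S), HilbD.Obj f d T → T.left.Opens)
    (hinj : ∀ (i : ι) (T : Over S) (a b : T ⟶ Zs i), (hilb f d).map a.op (e i) = (hilb f d).map b.op (e i) → a = b)
    (hkey : ∀ (i : ι) (T : Over S) (s : HilbD.Obj f d T) (T' : Over S) (t : T' ⟶ T),
      (∃ a : T' ⟶ Zs i, (hilb f d).map a.op (e i) = (hilb f d).map t.op s) ↔ Set.range t.left ⊆ V i T s)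
    (hcov : ∀ (T : Over S) (s : HilbD.Obj f d T) (y : T.left), ∃ i, y ∈ V i T s) : HilbD.Representable f d := by
  have hc : ∀ (T : Over S) (s : HilbD.Obj f d T) (y : T.left), ∃ (i : ι) (T' : Over S) (t : T' ⟶ T) (a : T' ⟶ Zs i),
      IsOpenImmersion t.left ∧ y ∈ Set.range t.left ∧ (hilb f d).map a.op (e i) = (hilb f d).map t.op s := by
    intro T s y
    obtain ⟨i, hi⟩ := hcov T s y
    let W := V i T s
    let t : Over.mk (W.ι ≫ T.hom) ⟶ T := Over.homMk W.ι rfl
    have ht : t.left = W.ι := rfl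
    have hr : Set.range t.left = (W : Set T.left) := by rw [ht]; exact W.range_ι
    obtain ⟨a, ha⟩ := (hkey i T s (Over.mk (W.ι ≫ T.hom)) t).2 hr.le
    refine ⟨i, _, t, a, ?_, ?_, ha⟩
    · rw [ht]
      infer_instance
    · rw [hr]
      exact hi
  have h0 := @OverRep.exists_representableBy_of_cover S (hilb f d) (isSheaf_hilb f d) ι Zs
  obtain ⟨Y, ⟨r⟩⟩ := h0 (fun i => (e i : (hilb f d).obj (op (Zs i)))) hinj
    (fun i T s => ⟨V i T s, fun T' t => hkey i T s T' t⟩) hc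
  refine ⟨Y, r.homEquiv (𝟙 Y), fun T W => ?_⟩
  have hr : ∀ k : T ⟶ Y, (r.homEquiv k : HilbD.Obj f d T).1 = HilbD.pull f k (r.homEquiv (𝟙 Y) : HilbD.Obj f d Y).1 :=
    fun k => congrArg Subtype.val (r.homEquiv_eq k)
  refine ⟨r.homEquiv.symm W, ?_, fun k hk => ?_⟩
  · show HilbD.pull f (r.homEquiv.symm W) _ = _
    rw [← hr, Equiv.apply_symm_apply]
  · exact r.homEquiv.injective (((Subtype.ext ((hr k).trans hk) : r.homEquiv k = W)).trans (Equiv.apply_symm_apply _ _).symm)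

theorem representable_of_points (d : ℕ)
    (h : ∀ (s : S) (x : Fin d → X), (∀ i, f.base (x i) = s) → ∃ U : X.Opens, IsAffineOpen U ∧ ∀ i, x i ∈ U) :
    HilbD.Representable f d := by
  classical
  let g := fun p : Piece f => f.resLE p.1.1.1 p.1.2.1 p.2
  have w : ∀ p : Piece f, g p ≫ p.1.1.1.ι = p.1.2.1.ι ≫ f := fun p => Scheme.Hom.resLE_comp_ι f p.2
  have hrep : ∀ p : Piece f, HilbD.Representable (g p) d := fun p => by
    haveI : IsAffine p.1.1.1.toScheme := p.1.1.2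
    haveI : IsAffine p.1.2.1.toScheme := p.1.2.2
    exact representable_affine _ d
  choose H Z hZ using hrep
  refine representable_of_pieces f (fun p : Piece f => bT p.1.1.1.ι (H p)) (fun p => pushO (w p) (Z p))
    (fun p T s => ⟨goodSet f p.1.1.1 p.1.2.1 s.1, isOpen_goodSet f p.1.1.1 p.1.2.1 s⟩) ?_ ?_ ?_
  · intro p
    exact piece_inj f (w p) (hZ p)
  · intro p
    exact piece_key f (w p) (hZ p)
  · intro T s y
    exact exists_piece f h T s y

end Groth.Agent.HilbRepLib
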